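import Cfsg.Agent.H555.Hall.ZStar_m3
import Cfsg.Agent.CpAutTh.Seven
import Cfsg.Agent.CpAutHNFive.Main
import Cfsg.Agent.S0204
import Cfsg.Agent.FastGrp
import Cfsg.Agent.Prune
set_option linter.all false

section
prune_inst 0x7f00000000000000000000000000000000000000000000000000000000000000000000000000000000000000000000000000000000000000000000000000000000000000000000000000000000000000003fffffffffffffffffffffffffffbeffbdffffffff

-- part: H555/Hall/SevenGen
section
set_option linter.all false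
open scoped Cfsg.Agent.FastGrp

-- part: H555/Hall/ZStarB
section
/-!
# The odd core with a small centralizer (helper555)

`comm_of_fpf` : a subgroup of a finite group on which an involution acts without fixed points is abelian;
`ns_of_central` : `z` an involution of `X`, `N` a normal subgroup of odd order with `N C(z) = X`, `Z ≤ N` central in `X`
with `N ∩ C(z) ≤ Z`: if `t ^ 2 ∤ |C(z)|`, `t ∣ |Z|`, then `X` has a normal Sylow `t`-subgroup.
-/

set_option autoImplicit false

namespace Cfsg.Agent.H555.Hall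

open Subgroup Cfsg

universe u

variable {X : Type u} [Group X] [Finite X]

theorem comm_of_fpf {z : X} (hzz : z * z = 1) {M : Subgroup X} (hM : ∀ m ∈ M, z * m * z⁻¹ ∈ M)
    (hf : ∀ m ∈ M, m * z = z * m → m = 1) : ∀ a ∈ M, ∀ b ∈ M, a * b = b * a := by
  let φ : M →* M :=
    { toFun := fun m => ⟨z * m * z⁻¹, hM m m.2⟩
      map_one' := Subtype.ext (by simp)
      map_mul' := fun a b => Subtype.ext (by
        change z * (a * b : X) * z⁻¹ = z * a * z⁻¹ * (z * b * z⁻¹)
        group) }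
  have hfp : MonoidHom.FixedPointFree φ := by
    intro m hm
    apply Subtype.ext
    have h1 : z * (m : X) * z⁻¹ = m := congrArg Subtype.val hm
    exact hf m m.2 (mul_inv_eq_iff_eq_mul.1 h1).symm
  have hinv : Function.Involutive φ := by
    intro m
    apply Subtype.ext
    change z * (z * (m : X) * z⁻¹) * z⁻¹ = m
    have h2 : z⁻¹ = z := inv_eq_of_mul_eq_one_right hzz
    rw [h2]
    calc z * (z * (m : X) * z) * z = (z * z) * m * (z * z) := by group
      _ = m := by rw [hzz]; group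
  intro a ha b hb
  exact congrArg Subtype.val ((hfp.commute_all_of_involutive hinv) ⟨a, ha⟩ ⟨b, hb⟩).eq

/-- commutators lie in `Z` -/
theorem comm_mem_of_central {z : X} (hz : orderOf z = 2) {N Z : Subgroup X} (hN : N.Normal) (hodd : Odd (Nat.card N))
    (hZN : Z ≤ N) (hZ : Z ≤ center X) (hfix : ∀ n ∈ N, n * z = z * n → n ∈ Z) :
    ∀ a ∈ N, ∀ b ∈ N, a * b * a⁻¹ * b⁻¹ ∈ Z := by
  have hZn : Z.Normal := ⟨fun x hx g => by
    have h2 : g * x * g⁻¹ = x := by rw [mem_center_iff.1 (hZ hx) g, mul_inv_cancel_right]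
    rwa [h2]⟩
  have hZodd : Odd (Nat.card Z) := Odd.of_dvd_nat hodd (card_dvd_of_le hZN)
  have hc := LThree.Red.centralizer_mk Nat.prime_two Z (Nat.coprime_two_right.2 hZodd) hz
  have hzz : z * z = 1 := by rw [← pow_two, ← hz, pow_orderOf_eq_one]
  have key := comm_of_fpf (X := X ⧸ Z) (z := QuotientGroup.mk' Z z) (by rw [← map_mul, hzz, map_one])
    (M := N.map (QuotientGroup.mk' Z)) ?_ ?_
  · intro a ha b hb
    have h1 := key _ (mem_map_of_mem _ ha) _ (mem_map_of_mem _ hb)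
    rw [← map_mul, ← map_mul] at h1
    have h2 : QuotientGroup.mk' Z (a * b * a⁻¹ * b⁻¹) = 1 := by
      have h3 : a * b * a⁻¹ * b⁻¹ = a * b * (b * a)⁻¹ := by group
      rw [h3, map_mul, map_inv, h1, mul_inv_cancel]
    exact (QuotientGroup.eq_one_iff _).1 h2
  · rintro _ ⟨n, hn, rfl⟩
    refine ⟨z * n * z⁻¹, hN.conj_mem n hn z, ?_⟩
    rw [map_mul, map_mul, map_inv]
  · rintro _ ⟨n, hn, rfl⟩ hnz
    have h1 : QuotientGroup.mk' Z n ∈ centralizer ({(QuotientGroup.mk' Z z)} : Set (X ⧸ Z)) :=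
      mem_centralizer_singleton_iff.2 hnz
    rw [hc] at h1
    obtain ⟨c, hcz, hcn⟩ := h1
    have h2 : c ∈ N := by
      have h3 : c⁻¹ * n ∈ Z := by
        rw [← QuotientGroup.eq_one_iff (N := Z)]
        change QuotientGroup.mk' Z (c⁻¹ * n) = 1
        rw [map_mul, map_inv, hcn, inv_mul_cancel]
      have h4 : c = n * (c⁻¹ * n)⁻¹ := by group
      rw [h4]
      exact mul_mem hn (inv_mem (hZN h3))
    have h5 := hfix c h2 (mem_centralizer_singleton_iff.1 hcz)
    rw [← hcn]
    exact (QuotientGroup.eq_one_iff _).2 h5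

theorem ns_of_central {z : X} (hz : orderOf z = 2) {N Z : Subgroup X} (hN : N.Normal) (hodd : Odd (Nat.card N))
    (hsup : N ⊔ centralizer ({z} : Set X) = ⊤) (hZN : Z ≤ N) (hZ : Z ≤ center X)
    (hfix : ∀ n ∈ N, n * z = z * n → n ∈ Z) {t : ℕ} (ht : t.Prime) (htZ : t ∣ Nat.card Z)
    (ht2 : ¬ t ^ 2 ∣ Nat.card (centralizer ({z} : Set X))) :
    ∃ T : Subgroup X, T.Normal ∧ T ≤ N ∧ IsPGroup t T ∧ ¬ t ∣ T.index := by
  have hft : Fact t.Prime := ⟨ht⟩
  have hcomm := comm_mem_of_central hz hN hodd hZN hZ hfix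
  -- `N` is nilpotent
  have hnil : Group.IsNilpotent N := by
    have h1 : commutator N ≤ center N := by
      rw [commutator_def, commutator_le]
      rintro ⟨a, ha⟩ - ⟨b, hb⟩ -
      rw [mem_center_iff]
      rintro ⟨g, hg⟩
      apply Subtype.ext
      have h2 := hZ (hcomm a ha b hb)
      exact mem_center_iff.1 h2 g
    have h2 : IsMulCommutative (N ⧸ center N) := by
      refine ⟨⟨fun a b => ?_⟩⟩
      obtain ⟨a, rfl⟩ := QuotientGroup.mk'_surjective _ a
      obtain ⟨b, rfl⟩ := QuotientGroup.mk'_surjective _ b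
      rw [← map_mul, ← map_mul]
      apply (QuotientGroup.eq).2
      apply h1
      have h3 := commutator_mem_commutator (mem_top (b⁻¹ : N)) (mem_top (a⁻¹ : N))
      rw [commutatorElement_def, inv_inv, inv_inv] at h3
      rwa [show (a * b)⁻¹ * (b * a) = b⁻¹ * a⁻¹ * b * a from by group]
    have h3 : Group.IsNilpotent (N ⧸ center N) := by
      rw [_root_.nilpotent_iff_lowerCentralSeries]
      refine ⟨1, ?_⟩
      rw [top_lowerCentralSeries_one, commutator_def, eq_bot_iff, commutator_le]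
      rintro a - b -
      rw [mem_bot, commutatorElement_def, h2.is_comm.comm a b]
      group
    exact Group.of_quotient_center_nilpotent h3
  obtain ⟨T⟩ : Nonempty (Sylow t N) := inferInstance
  have hTn : (T : Subgroup N).Normal := by
    have := (Group.isNilpotent_of_finite_tfae (G := N)).out 0 3
    exact this.1 hnil t hft T
  have hTc : (T : Subgroup N).Characteristic := T.characteristic_of_normal hTn
  refine ⟨(T : Subgroup N).map N.subtype, inferInstance, map_subtype_le _, T.isPGroup'.map _, ?_⟩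
  have h1 : ((T : Subgroup N).map N.subtype).index = (T : Subgroup N).index * N.index := by
    have := index_map (T : Subgroup N) N.subtype
    rwa [N.ker_subtype, sup_bot_eq, range_subtype] at this
  rw [h1, ht.dvd_mul, not_or]
  refine ⟨T.not_dvd_index, fun h => ht2 ?_⟩
  have h3 : (N.subgroupOf (centralizer ({z} : Set X))).index = N.index := by
    have h4 := relIndex_sup_right (H := centralizer ({z} : Set X)) (K := N)
    rw [sup_comm, hsup, relIndex_top_right] at h4
    exact h4.symm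
  have h5 := (N.subgroupOf (centralizer ({z} : Set X))).card_mul_index
  rw [h3] at h5
  rw [← h5, pow_two]
  refine mul_dvd_mul ?_ h
  have h6 : Z.subgroupOf (centralizer ({z} : Set X)) ≤ N.subgroupOf (centralizer ({z} : Set X)) :=
    fun x hx => hZN hx
  have hZC : Z ≤ centralizer ({z} : Set X) := fun x hx =>
    mem_centralizer_singleton_iff.2 (mem_center_iff.1 (hZ hx) z).symm
  have h7 : Nat.card (Z.subgroupOf (centralizer ({z} : Set X))) = Nat.card Z :=
    Nat.card_congr (subgroupOfEquivOfLe hZC).toEquiv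
  exact (h7 ▸ htZ).trans (card_dvd_of_le h6)

end Cfsg.Agent.H555.Hall
end

-- part: H555/Hall/SevenGen
section
/-!
# Groups with involution centralizers of order 8 (helper555)

`simple_of_cent`, `card_of_cent` : a group with one class of involutions, the centralizer of an involution a non-abelian
group of order 8 generated by involutions is simple; it has order 168 if 7 divides the order;
`not_comm_168` : elements of orders 3 and 7 of a simple group of order 168 do not commute.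
-/

set_option autoImplicit false

namespace Cfsg.Agent.H555.Hall

open Subgroup Cfsg

universe u

variable {K : Type u} [Group K] [Finite K]

theorem inv_of_fpf {z : K} (hzz : z * z = 1) {M : Subgroup K} (hM : ∀ m ∈ M, z * m * z⁻¹ ∈ M)
    (hf : ∀ m ∈ M, m * z = z * m → m = 1) : ∀ a ∈ M, z * a * z⁻¹ = a⁻¹ := by
  let φ : M →* M :=
    { toFun := fun m => ⟨z * m * z⁻¹, hM m m.2⟩
      map_one' := Subtype.ext (by simp)
      map_mul' := fun a b => Subtype.ext (by
        change z * (a * b : K) * z⁻¹ = z * a * z⁻¹ * (z * b * z⁻¹)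
        group) }
  have hfp : MonoidHom.FixedPointFree φ := by
    intro m hm
    apply Subtype.ext
    have h1 : z * (m : K) * z⁻¹ = m := congrArg Subtype.val hm
    exact hf m m.2 (mul_inv_eq_iff_eq_mul.1 h1).symm
  have hinv : Function.Involutive φ := by
    intro m
    apply Subtype.ext
    change z * (z * (m : K) * z⁻¹) * z⁻¹ = m
    have h2 : z⁻¹ = z := inv_eq_of_mul_eq_one_right hzz
    rw [h2]
    calc z * (z * (m : K) * z) * z = (z * z) * m * (z * z) := by group
      _ = m := by rw [hzz]; group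
  intro a ha
  have h1 := congrFun (hfp.coe_eq_inv_of_involutive hinv) ⟨a, ha⟩
  exact congrArg Subtype.val h1

/-- a subgroup of order prime to 2 and a 2-group -/
theorem eq_one_of_odd {N C : Subgroup K} (hN : Odd (Nat.card N)) (hC : IsPGroup 2 C) {n : K} (hn : n ∈ N) (hnC : n ∈ C) :
    n = 1 := by
  obtain ⟨k, hk⟩ := hC ⟨n, hnC⟩
  have h1 : n ^ 2 ^ k = 1 := congrArg Subtype.val hk
  have h2 : orderOf n ∣ 2 ^ k := orderOf_dvd_of_pow_eq_one h1
  have h3 : orderOf n ∣ Nat.card N := by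
    rw [← Subgroup.orderOf_mk n hn]
    exact orderOf_dvd_natCard _
  rw [← orderOf_eq_one_iff]
  exact Nat.eq_one_of_dvd_coprimes (Nat.Coprime.pow_left k (Nat.coprime_two_left.2 hN)) h2 h3

theorem cent_of_conj {s : K} (hconj : ∀ u : K, orderOf u = 2 → ∃ g : K, g * s * g⁻¹ = u)
    (hC : IsPGroup 2 (centralizer ({s} : Set K))) {u : K} (hu : orderOf u = 2) :
    IsPGroup 2 (centralizer ({u} : Set K)) := by
  obtain ⟨g, rfl⟩ := hconj u hu
  rintro ⟨c, hc⟩
  have h1 : g⁻¹ * c * g ∈ centralizer ({s} : Set K) := by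
    rw [mem_centralizer_singleton_iff] at hc ⊢
    calc g⁻¹ * c * g * s = g⁻¹ * (c * (g * s * g⁻¹)) * g := by group
      _ = g⁻¹ * (g * s * g⁻¹ * c) * g := by rw [hc]
      _ = _ := by group
  obtain ⟨k, hk⟩ := hC ⟨_, h1⟩
  refine ⟨k, Subtype.ext ?_⟩
  have h2 : (g⁻¹ * c * g) ^ 2 ^ k = 1 := congrArg Subtype.val hk
  have h3 : g⁻¹ * c * g = g⁻¹ * c * g⁻¹⁻¹ := by rw [inv_inv]
  rw [h3, conj_pow, conj_eq_one_iff] at h2
  exact h2

theorem simple_of_cent {s : K} (hs : orderOf s = 2) (hconj : ∀ u : K, orderOf u = 2 → ∃ g : K, g * s * g⁻¹ = u)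
    (hC : IsPGroup 2 (centralizer ({s} : Set K))) {A : Set K} (hA : ∀ a ∈ A, a * a = 1)
    (hcl : centralizer ({s} : Set K) ≤ closure A)
    (hsq : ∀ y ∈ centralizer ({s} : Set K), y * y = 1 ∨ y * y = s) {w : K} (hw : w ∈ centralizer ({s} : Set K))
    (hww : w * w = s) {c : K} (hc : c ∈ centralizer ({s} : Set K)) (hc2 : orderOf c = 2) (hcs : c ≠ s) :
    IsSimpleGroup K := by
  have h2F : Fact (Nat.Prime 2) := ⟨Nat.prime_two⟩
  have hs1 : s ≠ 1 := by
    rintro rfl
    rw [orderOf_one] at hs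
    omega
  have hnt : Nontrivial K := ⟨⟨s, 1, hs1⟩⟩
  refine ⟨fun N hN => ?_⟩
  by_cases h2 : 2 ∣ Nat.card N
  · right
    obtain ⟨r, hr⟩ := exists_prime_orderOf_dvd_card' 2 h2
    have hinv : ∀ u : K, orderOf u = 2 → u ∈ N := by
      intro u hu
      obtain ⟨g, hg⟩ := hconj u hu
      obtain ⟨g', hg'⟩ := hconj (r : K) (by rw [Subgroup.orderOf_coe, hr])
      have h1 : g * g'⁻¹ * r * (g * g'⁻¹)⁻¹ = u := CpAutTh.Seven.conj_trans hg hg'
      rw [← h1]
      exact hN.conj_mem _ r.2 _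
    have hCN : centralizer ({s} : Set K) ≤ N := by
      refine hcl.trans ((closure_le _).2 fun a ha => ?_)
      by_cases ha1 : a = 1
      · rw [ha1]; exact one_mem N
      · exact hinv a (orderOf_eq_prime (by rw [pow_two]; exact hA a ha) ha1)
    obtain ⟨P, hsP, hPc⟩ := CpAutTh.SevenAux.exists_sylow_central hs hconj
    have hPC : (P : Subgroup K) = centralizer ({s} : Set K) :=
      (P.is_maximal' hC (fun y hy => mem_centralizer_singleton_iff.2 (hPc y hy))).symm
    have hfr := P.normalizer_sup_eq_top' (N := N) (by rw [hPC]; exact hCN)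
    rw [eq_top_iff, ← hfr]
    refine sup_le ?_ le_rfl
    intro m hm
    apply hCN
    have h1 : m * w * m⁻¹ ∈ centralizer ({s} : Set K) := by
      rw [← hPC] at hw ⊢
      exact (mem_normalizer_iff.1 hm w).1 hw
    have h3 : (m * w * m⁻¹) * (m * w * m⁻¹) = m * s * m⁻¹ := by rw [← hww]; group
    rcases hsq _ h1 with h4 | h4
    · exfalso
      rw [h3, conj_eq_one_iff] at h4
      exact hs1 h4
    · rw [h3] at h4
      exact mem_centralizer_singleton_iff.2 (mul_inv_eq_iff_eq_mul.1 h4)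
  · left
    have hodd : Odd (Nat.card N) := Nat.not_even_iff_odd.1 fun h => h2 (even_iff_two_dvd.1 h)
    have hi : ∀ z : K, orderOf z = 2 → ∀ n ∈ N, z * n * z⁻¹ = n⁻¹ := by
      intro z hz
      refine inv_of_fpf (by rw [← pow_two, ← hz, pow_orderOf_eq_one]) (fun m hm => hN.conj_mem m hm z) ?_
      intro m hm hmz
      exact eq_one_of_odd hodd (cent_of_conj hconj hC hz) hm (mem_centralizer_singleton_iff.2 hmz)
    have hcs' := mem_centralizer_singleton_iff.1 hc
    have hss : s * s = 1 := by rw [← pow_two, ← hs, pow_orderOf_eq_one]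
    have hcc : c * c = 1 := by rw [← pow_two, ← hc2, pow_orderOf_eq_one]
    have hsc : orderOf (c * s) = 2 := by
      refine orderOf_eq_prime ?_ ?_
      · rw [pow_two]
        calc c * s * (c * s) = c * (s * c) * s := by group
          _ = (c * c) * (s * s) := by rw [← hcs']; group
          _ = 1 := by rw [hcc, hss, one_mul]
      · intro h3
        apply hcs
        calc c = c * s * s := by rw [mul_assoc, hss, mul_one]
          _ = s := by rw [h3, one_mul]
    rw [eq_bot_iff]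
    intro n hn
    have h3 := hi _ hsc n hn
    have h4 : c * s * n * (c * s)⁻¹ = n := by
      calc c * s * n * (c * s)⁻¹ = c * (s * n * s⁻¹) * c⁻¹ := by group
        _ = c * n⁻¹ * c⁻¹ := by rw [hi s hs n hn]
        _ = (c * n * c⁻¹)⁻¹ := by group
        _ = n := by rw [hi c hc2 n hn, inv_inv]
    rw [mem_bot]
    exact eq_one_of_odd hodd (cent_of_conj hconj hC hsc) hn
      (mem_centralizer_singleton_iff.2 (mul_inv_eq_iff_eq_mul.1 h4).symm)

/-- **the order** -/
theorem card_of_cent (h348 : ∀ (K : Type u) [Group K] [Finite K] [IsSimpleGroup K], (∃ a b : K, a * b ≠ b * a) →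
    (∀ t : K, orderOf t = 2 → IsPGroup 2 (Subgroup.centralizer ({t} : Set K))) →
    (∃ (F : Type) (_ : Field F) (_ : Fintype F),
        (Fintype.card F = 9 ∨ (∃ n : ℕ, Fintype.card F = 2 ^ n) ∨
          ((Fintype.card F).Prime ∧ ∃ k : ℕ, Fintype.card F = 2 ^ k + 1 ∨ Fintype.card F + 1 = 2 ^ k)) ∧
        Nonempty (K ≃* Matrix.ProjectiveSpecialLinearGroup (Fin 2) F)) ∨
    (∃ (F : Type) (_ : Field F) (_ : Fintype F), Fintype.card F = 4 ∧
        Nonempty (K ≃* Matrix.ProjectiveSpecialLinearGroup (Fin 3) F)) ∨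
    Cfsg.IsSuzuki K) {s : K} (hs : orderOf s = 2) (hconj : ∀ u : K, orderOf u = 2 → ∃ g : K, g * s * g⁻¹ = u)
    (hC : IsPGroup 2 (centralizer ({s} : Set K))) (h8 : Nat.card (centralizer ({s} : Set K)) ≤ 8)
    (hsimp : IsSimpleGroup K) (hna : ∃ a b : K, a * b ≠ b * a) {w : K} (hw : w * w = s) (h7 : 7 ∣ Nat.card K) :
    Nat.card K = 168 := by
  have h2F : Fact (Nat.Prime 2) := ⟨Nat.prime_two⟩
  obtain ⟨P, hsP, hPc⟩ := CpAutTh.SevenAux.exists_sylow_central hs hconj
  have hPC : (P : Subgroup K) = centralizer ({s} : Set K) :=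
    (P.is_maximal' hC (fun y hy => mem_centralizer_singleton_iff.2 (hPc y hy))).symm
  obtain ⟨F, hF, hFF, hF7, ⟨e⟩⟩ := CpAutTh.SevenAux.psl_seven h348 hsimp hna
    (fun t ht => cent_of_conj hconj hC ht) (by
      intro h16
      have h1 : 2 ^ 4 ∣ Nat.card (P : Subgroup K) := P.pow_dvd_card_of_pow_dvd_card (by norm_num; exact h16)
      have h2 := Nat.le_of_dvd Nat.card_pos h1
      rw [hPC] at h2
      omega) h7 (fun _ => ⟨w, by
      have hs1 : s ≠ 1 := by
        rintro rfl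
        rw [orderOf_one] at hs
        omega
      refine orderOf_eq_prime_pow (p := 2) (n := 1) (x := w) ?_ ?_
      · rw [pow_one, pow_two, hw]
        exact hs1
      · rw [show 2 ^ (1 + 1) = 2 * 2 by norm_num, pow_mul, pow_two, pow_two, hw, ← pow_two, ← hs, pow_orderOf_eq_one]⟩)
  have h1 := SmallSimple.PSLTwoPart.card_psl_two_odd (F := F) (by rw [hF7]; decide)
  rw [← Nat.card_congr e.toEquiv, hF7] at h1
  norm_num at h1
  omega

/-- **elements of orders 3 and 7** -/
theorem not_comm_168 (hsimp : IsSimpleGroup K) (hK : Nat.card K = 168) {a b : K} (ha : orderOf a = 3)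
    (hb : orderOf b = 7) : a * b ≠ b * a := by
  intro hab
  have h7F : Fact (Nat.Prime 7) := ⟨by norm_num⟩
  have hzp : IsPGroup 7 (zpowers b) := IsPGroup.of_card (n := 1) (by rw [Nat.card_zpowers, hb, pow_one])
  obtain ⟨P, hP⟩ := hzp.exists_le_sylow
  have hPc : Nat.card (P : Subgroup K) = 7 := by
    obtain ⟨n, hn⟩ := P.isPGroup'.exists_card_eq
    have h1 : 7 ∣ Nat.card (P : Subgroup K) := by
      have h2 := card_dvd_of_le hP
      rwa [Nat.card_zpowers, hb] at h2
    have h3 := card_subgroup_dvd_card (P : Subgroup K)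
    rw [hK] at h3
    rw [hn] at h1 h3 ⊢
    have h4 : n < 2 := by
      by_contra hlt
      have h5 := (pow_dvd_pow 7 (not_lt.1 hlt)).trans h3
      norm_num at h5
    have h6 : n ≠ 0 := by
      rintro rfl
      norm_num at h1
    have h7 : n = 1 := by omega
    rw [h7, pow_one]
  have hPb : (P : Subgroup K) = zpowers b := (Subgroup.eq_of_le_of_card_ge hP (by
    rw [hPc, Nat.card_zpowers, hb])).symm
  -- the centralizer
  have hPcent : (P : Subgroup K) ≤ centralizer ({b} : Set K) := by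
    rw [hPb, zpowers_le]
    exact mem_centralizer_singleton_iff.2 rfl
  have hc21 : 21 ∣ Nat.card (centralizer ({b} : Set K)) := by
    have h1 : 7 ∣ Nat.card (centralizer ({b} : Set K)) := by rw [← hPc]; exact card_dvd_of_le hPcent
    have h2 : 3 ∣ Nat.card (centralizer ({b} : Set K)) := by
      rw [← ha, ← Subgroup.orderOf_mk a (mem_centralizer_singleton_iff.2 hab)]
      exact orderOf_dvd_natCard _
    exact Nat.Coprime.mul_dvd_of_dvd_of_dvd (by norm_num) h2 h1
  have hcn : centralizer ({b} : Set K) ≤ normalizer ((P : Subgroup K) : Set K) := by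
    intro c hc
    rw [mem_normalizer_iff]
    intro y
    rw [hPb]
    have h1 : ∀ y ∈ zpowers b, c * y * c⁻¹ = y := by
      rintro y ⟨n, rfl⟩
      have h2 : Commute c (b ^ n) := (show Commute c b from mem_centralizer_singleton_iff.1 hc).zpow_right n
      change c * b ^ n * c⁻¹ = b ^ n
      rw [h2.eq, mul_inv_cancel_right]
    constructor
    · intro hy
      rwa [h1 y hy]
    · intro hy
      have h2 := h1 _ hy
      have h3 : c * y * c⁻¹ = y := mul_left_cancel (a := c) (mul_right_cancel (b := c⁻¹) h2)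
      rwa [h3] at hy
  -- the number of Sylow subgroups
  have hn1 : Nat.card (Sylow 7 K) * Nat.card ↥(normalizer ((P : Subgroup K) : Set K)) = 168 := by
    rw [Sylow.card_eq_index_normalizer P, ← hK]
    exact index_mul_card _
  obtain ⟨m, hm⟩ : 21 ∣ Nat.card ↥(normalizer ((P : Subgroup K) : Set K)) := hc21.trans (card_dvd_of_le hcn)
  have hn2 : Nat.card (Sylow 7 K) ≡ 1 [MOD 7] := card_sylow_modEq_one 7 K
  have hn3 : Nat.card (Sylow 7 K) * m = 8 := by
    rw [hm] at hn1
    have h1 : 21 * (Nat.card (Sylow 7 K) * m) = 21 * 8 := by rw [← mul_assoc, mul_comm 21, mul_assoc, hn1]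
    exact Nat.eq_of_mul_eq_mul_left (by norm_num) h1
  have hn4 : Nat.card (Sylow 7 K) ∣ 2 ^ 3 := Dvd.intro _ hn3
  have hnP : (P : Subgroup K) ≠ ⊥ ∧ (P : Subgroup K) ≠ ⊤ := by
    constructor
    · intro h1
      rw [h1, card_bot] at hPc
      omega
    · intro h1
      rw [h1, card_top, hK] at hPc
      omega
  obtain ⟨j, hj, hj8⟩ := (Nat.dvd_prime_pow Nat.prime_two).1 hn4
  have hm1 : m = 1 := by
    rw [hj8] at hn2 hn3
    interval_cases j
    · -- normal
      exfalso
      rw [hj8, pow_zero, one_mul] at hn1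
      have h1 : normalizer ((P : Subgroup K) : Set K) = ⊤ := by
        apply Subgroup.eq_top_of_card_eq
        rw [hn1, hK]
      have h2 : (P : Subgroup K).Normal := normalizer_eq_top_iff.1 h1
      rcases hsimp.eq_bot_or_eq_top_of_normal _ h2 with h3 | h3
      · exact hnP.1 h3
      · exact hnP.2 h3
    · exact absurd hn2 (by decide)
    · exact absurd hn2 (by decide)
    · omega
  have hNC : normalizer ((P : Subgroup K) : Set K) = centralizer ({b} : Set K) := by
    refine (Subgroup.eq_of_le_of_card_ge hcn ?_).symm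
    rw [hm, hm1]
    exact Nat.le_of_dvd Nat.card_pos hc21
  have hNC' : normalizer ((P : Subgroup K) : Set K) ≤ centralizer ((P : Subgroup K) : Set K) := by
    intro c hc
    rw [hNC] at hc
    rw [mem_centralizer_iff]
    intro y hy
    rw [SetLike.mem_coe, hPb] at hy
    obtain ⟨n, rfl⟩ := hy
    exact ((show Commute c b from mem_centralizer_singleton_iff.1 hc).zpow_right n).eq.symm
  have hcomp := MonoidHom.ker_transferSylow_isComplement' P hNC'
  have hcard := hcomp.card_mul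
  rcases hsimp.eq_bot_or_eq_top_of_normal (MonoidHom.transferSylow P hNC').ker inferInstance with h1 | h1
  · rw [h1, card_bot, one_mul, hPc, hK] at hcard
    omega
  · rw [h1, card_top, hPc, hK] at hcard
    omega

end Cfsg.Agent.H555.Hall
end
end

-- part: H555/Hall/HNFiveB
section
set_option linter.all false
open scoped Cfsg.Agent.FastGrp

-- part: H555/Hall/FourGen
section
/-!
# Four-groups and `Z*` (helper555)

`not_dvd_of_four` : `z` isolated in `X`, `u` a second involution commuting with `z`: an odd prime `t` dividing none of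
`|C(z)|`, `|C(u)|`, `|C(z u)|` does not divide `|X|`; `not_dvd_cent_of_four` : the same for `X = C(x)`.
-/

set_option autoImplicit false

namespace Cfsg.Agent.H555.Hall

open Subgroup Cfsg

universe u

theorem not_dvd_of_four {X : Type u} [Group X] [Finite X] {z v : X} (hz : orderOf z = 2) (hv : orderOf v = 2)
    (hc : v * z = z * v) (hiso : ∀ g : X, g * z * g⁻¹ * z = z * (g * z * g⁻¹) → g * z * g⁻¹ = z)
    {t : ℕ} (ht : t.Prime) (h1 : ¬ t ∣ Nat.card (centralizer ({z} : Set X)))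
    (h2 : ¬ t ∣ Nat.card (centralizer ({v} : Set X))) (h3 : ¬ t ∣ Nat.card (centralizer ({z * v} : Set X))) :
    ¬ t ∣ Nat.card X := by
  intro hd
  have hft : Fact t.Prime := ⟨ht⟩
  have h2F : Fact (Nat.Prime 2) := ⟨Nat.prime_two⟩
  have hzz : z * z = 1 := by rw [← pow_two, ← hz, pow_orderOf_eq_one]
  have hvv : v * v = 1 := by rw [← pow_two, ← hv, pow_orderOf_eq_one]
  obtain ⟨N, hN, hodd, hsup⟩ := exists_odd_iso hz hiso
  -- the four-group
  have hzp : IsPGroup 2 (zpowers z) := IsPGroup.of_card (n := 1) (by rw [Nat.card_zpowers, hz, pow_one])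
  have hvp : IsPGroup 2 (zpowers v) := IsPGroup.of_card (n := 1) (by rw [Nat.card_zpowers, hv, pow_one])
  have hn : zpowers z ≤ normalizer (zpowers v : Set X) := by
    rw [zpowers_le, mem_normalizer_iff]
    have h4 : ∀ y ∈ zpowers v, z * y * z⁻¹ = y := by
      rintro y ⟨n, rfl⟩
      have h5 : Commute z (v ^ n) := (show Commute z v from hc.symm).zpow_right n
      change z * v ^ n * z⁻¹ = v ^ n
      rw [h5.eq, mul_inv_cancel_right]
    intro y
    constructor
    · intro hy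
      rwa [h4 y hy]
    · intro hy
      have h5 := h4 _ hy
      have h6 : z * y * z⁻¹ = y := mul_left_cancel (a := z) (mul_right_cancel (b := z⁻¹) h5)
      rwa [h6] at hy
  have hQ : IsPGroup 2 ↥(zpowers z ⊔ zpowers v) := IsPGroup.to_sup_of_normal_right' hzp hvp hn
  obtain ⟨R, hRp, hRi, hRN, hnR, hR⟩ := exists_inv_sylow hN hodd hsup hQ ht h1
  have hconj : ∀ g ∈ zpowers z ⊔ zpowers v, ∀ r ∈ R, g * r * g⁻¹ ∈ R := fun g hg r hr =>
    (mem_normalizer_iff.1 (hnR hg) r).1 hr
  have hzQ : z ∈ zpowers z ⊔ zpowers v := mem_sup_left (mem_zpowers z)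
  have hvQ : v ∈ zpowers z ⊔ zpowers v := mem_sup_right (mem_zpowers v)
  -- an element commuting with `w`
  have key : ∀ w : X, ¬ t ∣ Nat.card (centralizer ({w} : Set X)) → ∀ r ∈ R, r * w = w * r → r = 1 := by
    intro w hw r hr hrw
    by_contra hne
    apply hw
    obtain ⟨k, hk⟩ := hRp ⟨r, hr⟩
    have hk' : r ^ t ^ k = 1 := congrArg Subtype.val hk
    obtain ⟨j, hj, hjo⟩ := (Nat.dvd_prime_pow ht).1 (orderOf_dvd_of_pow_eq_one hk')
    have hj0 : j ≠ 0 := by
      rintro rfl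
      rw [pow_zero, orderOf_eq_one_iff] at hjo
      exact hne hjo
    have h4 : orderOf r ∣ Nat.card (centralizer ({w} : Set X)) := by
      rw [← Subgroup.orderOf_mk r (mem_centralizer_singleton_iff.2 hrw)]
      exact _root_.orderOf_dvd_natCard _
    rw [hjo] at h4
    exact (dvd_pow_self t hj0).trans h4
  have hiz := inv_of_fpf hzz (M := R) (fun r hr => hconj z hzQ r hr) hR
  have hiv := inv_of_fpf hvv (M := R) (fun r hr => hconj v hvQ r hr) (key v h2)
  have hzv : z * v * (z * v) = 1 := by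
    calc z * v * (z * v) = z * (v * z) * v := by group
      _ = (z * z) * (v * v) := by rw [hc]; group
      _ = 1 := by rw [hzz, hvv, one_mul]
  have hizv := inv_of_fpf hzv (M := R) (fun r hr => hconj _ (mul_mem hzQ hvQ) r hr) (key _ h3)
  have hR1 : ∀ r ∈ R, r = 1 := by
    intro r hr
    have h4 := hizv r hr
    have h5 : z * v * r * (z * v)⁻¹ = r := by
      calc z * v * r * (z * v)⁻¹ = z * (v * r * v⁻¹) * z⁻¹ := by group
        _ = z * r⁻¹ * z⁻¹ := by rw [hiv r hr]
        _ = r := by rw [hiz r⁻¹ (inv_mem hr), inv_inv]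
    rw [h5] at h4
    -- `r = r⁻¹`
    have h6 : r * r = 1 := by
      nth_rewrite 2 [h4]
      exact mul_inv_cancel r
    have h7 : orderOf r ∣ 2 := orderOf_dvd_of_pow_eq_one (by rw [pow_two, h6])
    have h8 : orderOf r ∣ Nat.card N := by
      rw [← Subgroup.orderOf_mk r (hRN hr)]
      exact _root_.orderOf_dvd_natCard _
    rw [← orderOf_eq_one_iff]
    exact Nat.eq_one_of_dvd_coprimes (Nat.coprime_two_left.2 hodd) h7 h8
  have hRb : R = ⊥ := (eq_bot_iff_forall R).2 hR1
  apply hRi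
  rw [hRb, index_bot]
  exact hd

/-- the centralizer of `v` in `C(x)` -/
theorem card_pair {G : Type u} [Group G] {x v : G} (hv : v ∈ centralizer ({x} : Set G)) :
    Nat.card ↥(centralizer ({(⟨v, hv⟩ : ↥(centralizer ({x} : Set G)))} : Set ↥(centralizer ({x} : Set G)))) =
      Nat.card ↥(centralizer ({x} : Set G) ⊓ centralizer ({v} : Set G) : Subgroup G) := by
  refine Nat.card_congr
    { toFun := fun u => ⟨((u : ↥(centralizer ({x} : Set G))) : G),
        (u : ↥(centralizer ({x} : Set G))).2, mem_centralizer_singleton_iff.2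
          (congrArg Subtype.val (mem_centralizer_singleton_iff.1 u.2))⟩
      invFun := fun w => ⟨⟨(w : G), w.2.1⟩, mem_centralizer_singleton_iff.2
        (Subtype.ext (mem_centralizer_singleton_iff.1 w.2.2))⟩
      left_inv := fun _ => rfl
      right_inv := fun _ => rfl }

theorem not_dvd_cent_of_four {G : Type u} [Group G] [Finite G] {x z v : G} (hz : orderOf z = 2) (hv : orderOf v = 2)
    (hc : v * z = z * v) (hzx : z * x = x * z) (hvx : v * x = x * v)
    (hiso : ∀ g : G, g * x = x * g → g * z * g⁻¹ * z = z * (g * z * g⁻¹) → g * z * g⁻¹ = z)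
    {t : ℕ} (ht : t.Prime)
    (h1 : ¬ t ∣ Nat.card ↥(centralizer ({x} : Set G) ⊓ centralizer ({z} : Set G) : Subgroup G))
    (h2 : ¬ t ∣ Nat.card ↥(centralizer ({x} : Set G) ⊓ centralizer ({v} : Set G) : Subgroup G))
    (h3 : ¬ t ∣ Nat.card ↥(centralizer ({x} : Set G) ⊓ centralizer ({z * v} : Set G) : Subgroup G)) :
    ¬ t ∣ Nat.card ↥(centralizer ({x} : Set G)) := by
  have hzm : z ∈ centralizer ({x} : Set G) := mem_centralizer_singleton_iff.2 hzx
  have hvm : v ∈ centralizer ({x} : Set G) := mem_centralizer_singleton_iff.2 hvx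
  refine not_dvd_of_four (z := (⟨z, hzm⟩ : ↥(centralizer ({x} : Set G)))) (v := ⟨v, hvm⟩)
    (by rw [Subgroup.orderOf_mk, hz]) (by rw [Subgroup.orderOf_mk, hv])
    (Subtype.ext hc) ?_ ht (by rw [card_pair]; exact h1) (by rw [card_pair]; exact h2)
    (by
      have h4 := card_pair (x := x) (mul_mem hzm hvm)
      rw [← h4] at h3
      exact h3)
  rintro ⟨g, hg⟩ h4
  exact Subtype.ext (hiso g (mem_centralizer_singleton_iff.1 hg) (congrArg Subtype.val h4))

end Cfsg.Agent.H555.Hall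
end

-- part: H555/Hall/HNCert
section
/-!
# The centralizer of `w1` in `H0 = 2.HS.2` (helper555)

`card_le_one` : `|C(w1)| ≤ 2000` (kernel-checked coloured chain); `dvd_one` : `1000 ∣ |C(w1)|`.
-/

set_option autoImplicit false
set_option maxRecDepth 100000

namespace Cfsg.Agent.H555.Hall.HNCert

open Cfsg.Agent.HN.Pres Cfsg.Agent.HN.HS100 Cfsg.Agent.HN.P1408 Cfsg.Agent.HN.H0Basic
open Cfsg.Agent.HN.Syl Cfsg.Agent.HN.Classes Cfsg.Agent.HN.ColChain Cfsg.Agent.HN.CentUp
open Cfsg.Agent.CpAutHNFive.HTab Cfsg.Agent.CpAutHNFive.HFacts Cfsg.Agent.CpAutHNFive.HCert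
open Cfsg.Agent.SporadicA.PermTab (band_eq_true allB allB_iff)
open Subgroup

/-- tables for `cW` -/
def cWV : List ℕ := [0x8801c2180f06a0ac188600440402f01d0820f42505502c0a02e84e09a02c0c81203e15c1502f0b80180602609e0782a0320a604400038008004068140920e82904b090094108150c41141003c07200c2c00208e0b41802c0680fc070630380a4210230100dc3081706c16c200240120140505004e1442c83b0b404c1f04c0661580d82e03417c0c046, 0x4c0cc278270a40e41080f07e140158420a80002b84a0b60081880b03216830805038104018620c01581d82d09a0a42a82502c0282301405c0602c8240540041401f05e0c00704000e0303183801a0680e85f0b80800a83c09614c288440461600f034098124218360740881902c07c06c0984e08e1742f004020024088120900f40404506e0d40b806]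
/-- chain for `cW` -/
def cWBS : List (ℕ × ℕ × ℕ × ℕ) := [
  (0, 50, 0x1331000013310000133100001f4000001f4000001f400000133100001f4000001f400000133100001f4000001f4000001f4000001f4000001f4000001f4000001f4000001f4000001331000013310000133100001331000013310000133100001f4000001f4000001f400000133100001f4000001f4000001f40000013310000133100001f4000001f400000133100001f400000133100001f400000133100001f400000133100001f400000133100001f400000133100001f4000001f40000013310000133100001331000013310000133100001f40000013310000133100001f4000001f4000001f4000001f4000001f4000001331000013310000133100001f4000001f40000013310000133100001f4000001f4000001f4000001f400000133100001f4000001331000013310000133100001f4000001331000013310000133100001331000013310000133100001f400000133100001f4000001f40000013310000133100001331000013310000133100001f400000133100001f4000001f4000001f400000133100001f40, 0x236ea00001f4000001f4000001f40),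
  (2, 5, 0x49541fa06157af3049541fa0525f6391aca283206f75c3207a2d52a0525f63906f75c32115f72ba1aca28320525f6390525f639157901390525f6390525f639157901390525f639049541fa049541fa115f72ba049541fa06157af307a2d52a06f75c320525f6390838153907a2d52a0525f63920790e390525f639049541fa07a2d52a0525f6390525f63907a2d52a0838153907a2d52a1aca283207a2d52a0525f639049541fa08381539115f72ba0525f63906157af306f75c321aca2832049541fa115f72ba115f72ba049541fa115f72ba0525f639115f72ba049541fa0525f639157901390525f639083815390525f63907a2d52a06157af3049541fa157901390525f63906157af306157af30525f6390525f6390525f63908381539049541fa06f75c32049541fa07a2d52a115f72ba1aca2832049541fa06157af3049541fa115f72ba115f72ba06157af30525f639049541fa157901390525f63907a2d52a06157af3049541fa049541fa049541fa2dbbe12b06157af30525f6391aca283215790139049541fa10a31232, 0x9a3e9c461579013906f75c321aca2832),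
  (11, 2, 0x13546f423834311813546f421ed852461c40a429148a4dac051d8416154ec7b6148a4dac13d795da332f85fb2962f10e1538fcf60a0104522cc9dfa41ed852462d5c57912962f10e0476d09f0476d09f13d795da13546f423834311825fbb2a2148a4dac2962f10e1e89d5c9051d84161538fcf6163a2127154ec7b617ad61880f9ee83a154ec7b6154ec7b6051d84161e89d5c9051d8416332f85fb25fbb2a22cc9dfa413546f421e89d5c913d795da1ed85246081f5d73056fb018332f85fb0476d09f34ab78ab34ab78ab3340191834ab78ab1538fcf613d795da17ad61881ed852462d5c57912cc9dfa41f87e8eb2962f10e25fbb2a23834311813546f422d5c57911ed8524638343118081f5d731ed852461ed852461538fcf61e89d5c913546f42148a4dac0476d09f25fbb2a213d795da332f85fb0476d09f081f5d733340191813d795da34ab78ab383431182cc9dfa4334019182d5c57911ed852460f9ee83a383431180476d09f17ad61883340191810d0f0fc081f5d732962f10e332f85fb0a918f1d17ad618800f64372, 0x250f242920f9ee83a3834311813d795da),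
  (1, 2, 0xe8c34341a08fecb0c347e952d6780e43b4f3f4f2eec6678219ddbe80c00297902796f91220d4fce0d75ed74270c05eb0599fe3c0ae8c9b9169899f91edd62020f66110902d44d65022556d43b4874cf1f9b0b180c347e9526d0f2d526b725c32eec6678270c05eb0674995d219ddbe837c3f38b35ffa02f0c0029790272e0e625962e2917a7a09517a7a09518a032230674995d18a032230d75ed742ede5cd10cee19a22298005e1a64300514ed48ce39d6f3bd3103f4852ab5b9f40d75ed74022556d41a000b1124c6ab0d2c87dc4c24c6ab0d37c3f38b2e4209be09fd558d1edd62020f661109169899f91f83600a1fb0825026b725c33648e0252298005e22fa06da39d6f3bd1a08fecb31caa42d1edd62021edd62020599fe3c1a6430050e8c343402796f913b4874cf2ede5cd114ed48ce1a490498011abe083103f4852c87dc4c2e4209be1a000b1107358a3e0cee19a235a0adfb22fa06da2d6780e4372eb9bc3648e025011abe080272e0e635a0adfb240a515731caa42d1fb082501a4904981940223309fd558d2cbe4bc0, 0x2daf2c51709fd558d14ed48ce2ede5cd1)]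
/-- last table for `cW` -/
def cWT : ℕ := 0x1c2119be0cd1a51c1d78240904c94016359b33e43627800f2ec46bfc0c6c0d6515b6e180001f7ad21961014916e64a9a20fbd30316e970d22c061f7111fea415206e5f46339c4ecc0a8b1fa82cf294d503a256493b7a20151856941e1f6102670020c8522c5bf0572dcd11a92ec46bfc17c00119278e033e2860b544330b0c32208a0a9d08e1f8391bb8875329f8ed0f0ae7caf839546431357765d40f656da703b8d8732d2208e908a2ee1412c49093378486900752b04b0bcdf2d1357765d40a8b1fa82de73593139940a51774c036139940a51d577947062b186a043582c311fea415377fa4b015a570641c87fb96160b2dba377ab7e7343b535b03da99b60479a13601acc6f60cd1a51c1c70c01015dbf8c611fea41521fd2fed08a2ee1416f82c07224c5b3728a4e3d42d54cae8348fbf3639ef00c611867732118011682accf5da1d3e1adf2de7359308a16e9410f8006914fd368e17fe98a60dea470f0775d1f721c37b7002f85a2a07d4d26114fd368e298d336e17780aea0b93110f22eb296001d534f21a484957251bbf1d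
/-- ranks for `cW` -/
def cWR : ℕ := 0xc1381b0580c60901705c00610c048040321202f0490680542784d0381840501d00e1041c83c0221541303a01814c1f0010a80c00d8330a005c238310940dc100460c00342002b04a078028590960a8118180241442b8350040ec1f81a08a174140160000b4108620be03c220220280a41783d020130040380260c80f84204e1480582c0b40382d856
/-- order for `cW` -/
def cWO : ℕ := 0xbe0602703302e1540f05c00200c1606004a0002303f0840181303b0a21882800e0560dc2a0560720d00f8150b402025031042104080480441102480c06c184120530780281c03e0221740d0040600a80901d00e1141785e0520500c8350120b82604f07a0802b8280740702901301609c2380f02c0081904300a1342c80d09618c168580b608c2001b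

theorem prod_W : prodM cWBS = 1000 := by decide +kernel

theorem cW_le : Nat.card (cenA [w1, w1 ++ w1]) ≤ 1000 := by
  rw [← prod_W]
  exact card_cenA_le (VS := cWV) (bs := cWBS) (T := cWT) (R := cWR) (O := cWO) (by decide +kernel) (by decide +kernel)

/-- `|C(w1)| ≤ 2000` -/
theorem card_le_one : Nat.card ↥(centralizer ({hw w1} : Set H0)) ≤ 2000 := by
  have h := card_centralizer_le cW_le
  rwa [centralizer_wset] at h

end Cfsg.Agent.H555.Hall.HNCert
end

-- part: H555/Hall/HNFiveA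
section
/-!
# The Harada–Norton group: the centralizers of `w1` and `w3` (helper555)

An odd prime `t ≠ 5` does not divide `|C(ψ w1)|`, `|C(ψ w3)|`.
-/

set_option autoImplicit false
set_option maxRecDepth 100000

namespace Cfsg.Agent.H555.Hall.HNFive

open Cfsg.Agent.HN.Pres Cfsg.Agent.HN.H0Basic
open Cfsg.Agent.HN.P1408 hiding ψ
open Cfsg.Agent.HN.NormalH (ψ)
open Cfsg.Agent.HN.XWords (W0 W0_sq)
open Cfsg Cfsg.Agent
open Cfsg.Agent.KFacts.HN
open Cfsg.Agent.CpAutTh.RankOne (UInv)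
open Cfsg.Agent.CpAutHN.Alt
open Cfsg.Agent.CpAutHN.Pairs (instSimple tt order_tt comm_of)
open Cfsg.Agent.CpAutHNFive Cfsg.Agent.CpAutHNFive.TFive Cfsg.Agent.CpAutHNFive.HTab Cfsg.Agent.CpAutHNFive.LFive
  Cfsg.Agent.CpAutHNFive.PFive
open Cfsg.Agent.CpAutHNFive.HFacts Cfsg.Agent.CpAutHNFive.TauFive Cfsg.Agent.CpAutHNFive.QD
open Subgroup

/-! ### `|C(w1)|` -/

theorem eight_dvd_w1 : 8 ∣ Nat.card ↥(centralizer ({hw w1} : Set H0)) := by
  have := finite_H0
  have hτ : τ ∈ centralizer ({hw w1} : Set H0) := mem_centralizer_singleton_iff.2 (τ_comm _).symm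
  have hq : hw wq ∈ centralizer ({hw w1} : Set H0) := mem_centralizer_singleton_iff.2 q_comm
  have h3 := mul_order_dvd (C := ↥(centralizer ({hw w1} : Set H0))) (a := ⟨τ, hτ⟩) (b := ⟨hw wq, hq⟩)
    (Subtype.ext (τ_comm _).symm)
    (inf_eq_bot_of_prime Nat.prime_two (by rw [← Subgroup.orderOf_coe]; exact order_τ) (by
      intro h
      apply τ_not_mem
      obtain ⟨k, hk⟩ := mem_zpowers_iff.1 h
      exact mem_zpowers_iff.2 ⟨k, congrArg Subtype.val hk⟩))
  rw [← Subgroup.orderOf_coe, ← Subgroup.orderOf_coe] at h3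
  change orderOf τ * orderOf (hw wq) ∣ _ at h3
  rw [order_τ, order_q] at h3
  exact h3

theorem conj_z : (hw (cwd (0, 0, 1, 0, 0, 0, 1)))⁻¹ * hw wz * hw (cwd (0, 0, 1, 0, 0, 0, 1)) = hw w1 := by
  have h1 : chkE (0, 0, 1, 0, 0, 0, 1) = true := (tb_ok _ (by decide)).1
  have h5 := hw_eq h1
  rw [hw_append, hw_append, elw, hw_append, hw_append, hw_rp, hw_rp, hw_rp, hw_rp] at h5
  simp only [pow_zero, one_mul, pow_one] at h5
  rw [mul_assoc, h5, inv_mul_cancel_left]
  rfl

theorem dvd125 : 125 ∣ Nat.card ↥(centralizer ({hw w1} : Set H0)) := by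
  have := finite_H0
  have hcard := card_closure _root_.Cfsg.Agent.CpAutHNFive.HTab.c5 d5 z5 z1 cz dz cd
  have hle : _root_.Subgroup.closure ({hw wc, hw wd} : Set H0) ≤ centralizer ({hw wz} : Set H0) := by
    rw [closure_le]
    rintro y (rfl | rfl)
    · exact mem_centralizer_singleton_iff.2 cz
    · exact mem_centralizer_singleton_iff.2 dz
  have h1 : 125 ∣ Nat.card ↥(centralizer ({hw wz} : Set H0)) := by
    have h2 := card_dvd_of_le hle
    rw [hcard] at h2
    exact h2
  have e := cequiv (hw (cwd (0, 0, 1, 0, 0, 0, 1)))⁻¹ (hw wz)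
  rw [inv_inv, conj_z] at e
  rwa [Nat.card_congr e.toEquiv] at h1

theorem cent_one {t : ℕ} (ht : t.Prime) (h2 : t ≠ 2) (h5 : t ≠ 5) : ¬ t ∣ Nat.card ↥(centralizer ({hw w1} : Set H0)) := by
  have := finite_H0
  intro h
  have h3 : 3 ≤ t := by
    have := ht.two_le
    omega
  have h4 : 8 * 125 * t ∣ Nat.card ↥(centralizer ({hw w1} : Set H0)) := by
    refine Nat.Coprime.mul_dvd_of_dvd_of_dvd ?_ (Nat.Coprime.mul_dvd_of_dvd_of_dvd (by norm_num) eight_dvd_w1 dvd125) h
    rw [show 8 * 125 = 2 ^ 3 * 5 ^ 3 by norm_num]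
    exact Nat.Coprime.mul_left (Nat.Coprime.pow_left _ ((Nat.coprime_primes Nat.prime_two ht).2 (Ne.symm h2)))
      (Nat.Coprime.pow_left _ ((Nat.coprime_primes Nat.prime_five ht).2 (Ne.symm h5)))
  have h6 := Nat.le_of_dvd Nat.card_pos h4
  have h7 := HNCert.card_le_one
  omega

theorem not_dvd_100 {t : ℕ} (ht : t.Prime) (h2 : t ≠ 2) (h5 : t ≠ 5) : ¬ t ∣ 100 := by
  intro h
  rw [show 100 = 2 ^ 2 * 5 ^ 2 by norm_num] at h
  rcases ht.dvd_mul.1 h with h1 | h1
  · exact h2 ((Nat.prime_dvd_prime_iff_eq ht Nat.prime_two).1 (ht.dvd_of_dvd_pow h1))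
  · exact h5 ((Nat.prime_dvd_prime_iff_eq ht Nat.prime_five).1 (ht.dvd_of_dvd_pow h1))

theorem cent_three {t : ℕ} (ht : t.Prime) (h2 : t ≠ 2) (h5 : t ≠ 5) : ¬ t ∣ Nat.card ↥(centralizer ({hw w3} : Set H0)) := by
  rw [HFacts.card_three]
  exact not_dvd_100 ht h2 h5

/-! ### pairs -/

theorem card_conj {G : Type*} [Group G] (c x v : G) :
    Nat.card ↥(centralizer ({x} : Set G) ⊓ centralizer ({v} : Set G) : Subgroup G) =
      Nat.card ↥(centralizer ({c * x * c⁻¹} : Set G) ⊓ centralizer ({c * v * c⁻¹} : Set G) : Subgroup G) := by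
  rw [← map_centralizer, ← map_centralizer, ← Subgroup.map_inf _ _ _ (MulAut.conj c).injective,
    card_map_of_injective (MulAut.conj c).injective]

theorem card_H0 (y : H0) : Nat.card ↥(centralizer ({ψ y} : Set G) ⊓ centralizer ({ψ τ} : Set G) : Subgroup G) =
    Nat.card ↥(centralizer ({y} : Set H0)) := by
  rw [Nat.card_congr (equiv_C y).toEquiv]
  exact (Cfsg.Agent.H555.Hall.card_pair (x := ψ y) (v := ψ τ) _).symm

theorem pair_τ {x v : G} (hx : orderOf x = 5) (hv : IsConj (ψ τ) v) (hvx : v * x = x * v)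
    (hnot : ¬ Nonempty (↥(centralizer ({x} : Set G)) ≃* ↥(centralizer ({ψ (hw w2)} : Set G))))
    {t : ℕ} (ht : t.Prime) (h2 : t ≠ 2) (h5 : t ≠ 5) :
    ¬ t ∣ Nat.card ↥(centralizer ({x} : Set G) ⊓ centralizer ({v} : Set G) : Subgroup G) := by
  obtain ⟨c, hc⟩ := isConj_iff.1 hv.symm
  have h1 : c * x * c⁻¹ * ψ τ = ψ τ * (c * x * c⁻¹) := by
    rw [← hc]
    calc c * x * c⁻¹ * (c * v * c⁻¹) = c * (x * v) * c⁻¹ := by group
      _ = c * (v * x) * c⁻¹ := by rw [hvx]
      _ = _ := by group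
  obtain ⟨y, hy⟩ := emb.cent _ h1
  have hy5 : orderOf y = 5 := by
    rw [← orderOf_injective ψ emb.inj, hy, ← hx]
    exact MulEquiv.orderOf_eq (MulAut.conj c) x
  rw [card_conj c x v, hc, ← hy, card_H0]
  obtain ⟨g, m, hm1, hm5, w, hw', hg⟩ := five_conj hy5
  have hw5 : orderOf (hw w) = 5 := by
    rcases hw' with rfl | rfl | rfl
    · exact order_w1
    · exact order_w2
    · exact order_w3
  obtain ⟨e⟩ := cequiv_pow (x := hw w) (y := y) hw5 (g := g⁻¹) hm1 hm5 (by rw [← hg]; group)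
  rw [← Nat.card_congr e.toEquiv]
  rcases hw' with rfl | rfl | rfl
  · exact cent_one ht h2 h5
  · exfalso
    apply hnot
    have hw5' : orderOf (ψ (hw w2)) = 5 := by rw [orderOf_injective _ emb.inj]; exact hw5
    have h3 : (ψ g * c)⁻¹ * ψ (hw w2) ^ m * ((ψ g * c)⁻¹)⁻¹ = x := by
      rw [← map_pow, ← hg, map_mul, map_mul, map_inv, hy]
      group
    obtain ⟨e'⟩ := cequiv_pow hw5' hm1 hm5 h3
    exact ⟨e'.symm⟩
  · exact cent_three ht h2 h5

/-- type II -/
theorem two_not_dvd {y : PP} (h : ρ y = φA LFive.c5 * φB (LFive.c5 ^ 3)) {t : ℕ} (ht : t.Prime) (h2 : t ≠ 2) (h5 : t ≠ 5) :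
    ¬ t ∣ Nat.card ↥(centralizer ({sx y} : Set ↥(centralizer ({(y : G)} : Set G)))) := by
  intro hd
  obtain ⟨n, hn⟩ := IsPGroup.iff_card.1 (ker_two y)
  have h5F : Fact (Nat.Prime 5) := ⟨Nat.prime_five⟩
  have hr : IsPGroup 5 ↥(fC y).range := by
    rintro ⟨z, hz⟩
    refine ⟨1, Subtype.ext ?_⟩
    change z ^ 5 ^ 1 = 1
    rw [pow_one]
    obtain ⟨u, rfl⟩ := hz
    have hc := fC_comm y u
    rw [h] at hc
    exact pow_of_comm (mem_LL_of_comm hc) (Or.inr rfl) hc
  obtain ⟨m, hm⟩ := IsPGroup.iff_card.1 hr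
  have h3 : Nat.card ↥(centralizer ({sx y} : Set ↥(centralizer ({(y : G)} : Set G)))) = 2 ^ n * 5 ^ m := by
    rw [← hn, ← hm, ← (fC y).ker.card_mul_index, Subgroup.index_ker]
  rw [h3] at hd
  rcases ht.dvd_mul.1 hd with h1 | h1
  · exact h2 ((Nat.prime_dvd_prime_iff_eq ht Nat.prime_two).1 (ht.dvd_of_dvd_pow h1))
  · exact h5 ((Nat.prime_dvd_prime_iff_eq ht Nat.prime_five).1 (ht.dvd_of_dvd_pow h1))

/-- the standard form of an element of order 5 commuting with `W0` and with a second involution -/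
theorem std_W {x u : G} (hx : orderOf x = 5) (hxW : x * W0 = W0 * x) (hu : orderOf u = 2) (huW : u ≠ W0)
    (hucW : u * W0 = W0 * u) (hux : u * x = x * u) :
    ∃ (g y : PP) (m : ℕ), 1 ≤ m ∧ m < 5 ∧ (y : G) = g * x ^ m * (g : G)⁻¹ ∧ orderOf y = 5 ∧
      (ρ y = φA LFive.c5 * φB LFive.c5 ∨ ρ y = φA LFive.c5 * φB (LFive.c5 ^ 3)) := by
  have hxP : orderOf (⟨x, mem_PP.2 hxW⟩ : PP) = 5 := by rw [← Subgroup.orderOf_coe]; exact hx
  obtain ⟨g, m, hm1, hm5, h⟩ := conj_std hxP
  refine ⟨g, g * ⟨x, mem_PP.2 hxW⟩ ^ m * g⁻¹, m, hm1, hm5, rfl, ?_, ?_⟩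
  · have h1 : orderOf ((⟨x, mem_PP.2 hxW⟩ : PP) ^ m) = 5 := by
      rw [orderOf_pow, hxP]
      interval_cases m <;> rfl
    rw [← h1]
    exact MulEquiv.orderOf_eq (MulAut.conj g) _
  · rcases h with h | h
    · exfalso
      have h1 : (g : G) * u * (g : G)⁻¹ ∈ centralizer
          ({((g * ⟨x, mem_PP.2 hxW⟩ ^ m * g⁻¹ : PP) : G)} : Set G) := by
        rw [mem_centralizer_singleton_iff]
        change (g : G) * u * (g : G)⁻¹ * ((g : G) * x ^ m * (g : G)⁻¹) = (g : G) * x ^ m * (g : G)⁻¹ * (g * u * (g : G)⁻¹)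
        have h2 := ((show Commute u x from hux).pow_right m).eq
        calc (g : G) * u * (g : G)⁻¹ * ((g : G) * x ^ m * (g : G)⁻¹) = g * (u * x ^ m) * (g : G)⁻¹ := by group
          _ = g * (x ^ m * u) * (g : G)⁻¹ := by rw [h2]
          _ = _ := by group
      have hgW : (g : G) * W0 * (g : G)⁻¹ = W0 := by rw [mem_PP.1 g.2, mul_inv_cancel_right]
      have h3 := unique_one h ⟨_, h1⟩ (by
        rw [Subgroup.orderOf_mk, ← hu]
        exact MulEquiv.orderOf_eq (MulAut.conj (g : G)) u) (Subtype.ext (by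
          change (g : G) * u * (g : G)⁻¹ * W0 = W0 * (g * u * (g : G)⁻¹)
          calc (g : G) * u * (g : G)⁻¹ * W0 = g * u * (g : G)⁻¹ * (g * W0 * (g : G)⁻¹) := by rw [hgW]
            _ = g * (u * W0) * (g : G)⁻¹ := by group
            _ = g * (W0 * u) * (g : G)⁻¹ := by rw [hucW]
            _ = (g * W0 * (g : G)⁻¹) * (g * u * (g : G)⁻¹) := by group
            _ = _ := by rw [hgW]))
      have h4 : (g : G) * u * (g : G)⁻¹ = W0 := congrArg Subtype.val h3
      apply huW
      rw [← hgW] at h4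
      exact mul_left_cancel (mul_right_cancel h4)
    · exact h

theorem pair_W0 {x u : G} (hx : orderOf x = 5) (hxW : x * W0 = W0 * x) (hu : orderOf u = 2) (huW : u ≠ W0)
    (hucW : u * W0 = W0 * u) (hux : u * x = x * u) {t : ℕ} (ht : t.Prime) (h2 : t ≠ 2) (h5 : t ≠ 5) :
    ¬ t ∣ Nat.card ↥(centralizer ({x} : Set G) ⊓ centralizer ({W0} : Set G) : Subgroup G) := by
  obtain ⟨g, y, m, hm1, hm5, hy, hy5, h⟩ := std_W hx hxW hu huW hucW hux
  have hgW : (g : G) * W0 * (g : G)⁻¹ = W0 := by rw [mem_PP.1 g.2, mul_inv_cancel_right]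
  rw [← centralizer_pow hx hm1 hm5, card_conj (g : G) (x ^ m) W0, hgW, ← hy]
  rw [← TauFive.card_pair]
  rcases h with h | h
  · exact fun hd => not_dvd_100 ht h2 h5 (hd.trans (TFive.card_three h))
  · exact two_not_dvd h ht h2 h5

theorem pair_W {x v u : G} (hx : orderOf x = 5) (hv : IsConj W0 v) (hvx : v * x = x * v) (hu : orderOf u = 2)
    (huv : u ≠ v) (hucv : u * v = v * u) (hux : u * x = x * u) {t : ℕ} (ht : t.Prime) (h2 : t ≠ 2) (h5 : t ≠ 5) :
    ¬ t ∣ Nat.card ↥(centralizer ({x} : Set G) ⊓ centralizer ({v} : Set G) : Subgroup G) := by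
  obtain ⟨c, hc⟩ := isConj_iff.1 hv.symm
  have hcm : ∀ a b : G, a * b = b * a → c * a * c⁻¹ * (c * b * c⁻¹) = c * b * c⁻¹ * (c * a * c⁻¹) := by
    intro a b hab
    calc c * a * c⁻¹ * (c * b * c⁻¹) = c * (a * b) * c⁻¹ := by group
      _ = c * (b * a) * c⁻¹ := by rw [hab]
      _ = _ := by group
  rw [card_conj c x v, hc]
  refine pair_W0 (u := c * u * c⁻¹) ?_ ?_ ?_ ?_ ?_ (hcm u x hux) ht h2 h5
  · rw [← hx]; exact MulEquiv.orderOf_eq (MulAut.conj c) x
  · rw [← hc]; exact hcm x v hvx.symm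
  · rw [← hu]; exact MulEquiv.orderOf_eq (MulAut.conj c) u
  · rw [← hc]
    intro h
    exact huv (mul_left_cancel (mul_right_cancel h))
  · rw [← hc]; exact hcm u v hucv

end Cfsg.Agent.H555.Hall.HNFive
end

-- part: H555/Hall/HNFiveB
section
/-!
# The Harada–Norton group: `Inv1 5 t`, `t = 3, 7, 11` (helper555)
-/

set_option autoImplicit false
set_option maxRecDepth 100000

namespace Cfsg.Agent.H555.Hall.HNFive

open Cfsg.Agent.HN.Pres Cfsg.Agent.HN.H0Basic
open Cfsg.Agent.HN.P1408 hiding ψ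
open Cfsg.Agent.HN.NormalH (ψ)
open Cfsg.Agent.HN.XWords (W0 W0_sq)
open Cfsg Cfsg.Agent
open Cfsg.Agent.KFacts.HN
open Cfsg.Agent.CpAutTh.RankOne (UInv)
open Cfsg.Agent.CpAutHN.Alt
open Cfsg.Agent.CpAutHN.Pairs (instSimple tt order_tt comm_of)
open Cfsg.Agent.CpAutHNFive Cfsg.Agent.CpAutHNFive.TFive Cfsg.Agent.CpAutHNFive.HTab Cfsg.Agent.CpAutHNFive.LFive
  Cfsg.Agent.CpAutHNFive.PFive Cfsg.Agent.CpAutHNFive.Main
open Cfsg.Agent.CpAutHNFive.HFacts Cfsg.Agent.CpAutHNFive.TauFive Cfsg.Agent.CpAutHNFive.QD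
open Cfsg.Agent.HN.Syl (d)
open Subgroup

theorem FT (K : Type) [Group K] [Finite K] (h : Odd (Nat.card K)) : Group.IsSolvable K := S0205.result h

theorem h204 (K : Type) [Group K] [Finite K] [IsSimpleGroup K] (h : ¬ IsCyclic K) : ∃ E : Subgroup K, IsKleinFour E :=
  S0204.result h

theorem not_good_two : ¬ Good ↥(centralizer ({ψ (hw w2)} : Set G)) := by
  intro h
  obtain ⟨e⟩ := (main_cases FT h204 order_X5 order_tt tt_comm).resolve_left not_good
  exact not_good (h.congr e.symm)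

theorem not_iso_one : ¬ Nonempty (↥(centralizer ({ψ (hw w1)} : Set G)) ≃* ↥(centralizer ({ψ (hw w2)} : Set G))) := by
  rintro ⟨e⟩
  exact not_good_two ((good_one FT h204).congr e)

theorem order_ψ (y : H0) : orderOf (ψ y) = orderOf y := orderOf_injective _ emb.inj y

theorem ψ_comm {a b : H0} (h : a * b = b * a) : ψ a * ψ b = ψ b * ψ a := by rw [← map_mul, h, map_mul]

theorem isConj_W0 {u : G} (hu : orderOf u = 2) (h : ¬ IsConj (ψ τ) u) : IsConj W0 u := by
  rcases Classes.inv_class hu with h1 | h1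
  · exact absurd h1.symm h
  · exact h1.symm

/-! ### `w3` -/

theorem not_dvd_w3 {t : ℕ} (ht : t.Prime) (h2 : t ≠ 2) (h5 : t ≠ 5) :
    ¬ t ∣ Nat.card ↥(centralizer ({ψ (hw w3)} : Set G)) := by
  have hx : orderOf (ψ (hw w3)) = 5 := by rw [order_ψ, order_w3]
  have hτd : orderOf (τ * d) = 2 := by
    have : Fact (Nat.Prime 2) := ⟨Nat.prime_two⟩
    refine orderOf_eq_prime ?_ ?_
    · rw [pow_two]
      have h3 : d * d = 1 := by rw [← pow_two]; exact d_two
      calc τ * d * (τ * d) = τ * (d * τ) * d := by group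
        _ = (τ * τ) * (d * d) := by rw [τ_comm]; group
        _ = 1 := by rw [τ_mul_τ, h3, one_mul]
    · intro h
      apply d_ne_τ
      calc d = τ * (τ * d) := by rw [← mul_assoc, τ_mul_τ, one_mul]
        _ = τ := by rw [h, mul_one]
  have hτdc : τ * d * hw w3 = hw w3 * (τ * d) := by
    rw [mul_assoc, d_comm, ← mul_assoc, ← τ_comm, mul_assoc]
  have hWd : IsConj W0 (ψ d) := isConj_W0 (by rw [order_ψ, order_d]) hd
  have hWτd : IsConj W0 (ψ (τ * d)) := by
    rcases inv_three hτdc hτd with h | h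
    · exfalso
      apply d_ne
      exact mul_eq_left.1 h
    · exact hWd.trans (ψ.map_isConj h)
  refine not_dvd_cent_of_four (z := ψ τ) (v := ψ d) (by rw [order_ψ, order_τ]) (by rw [order_ψ, order_d])
    (ψ_comm (τ_comm d)) (ψ_comm (τ_comm _).symm) (ψ_comm d_comm) ?_ ht ?_ ?_ ?_
  · intro g hgx hg
    obtain ⟨v, hv⟩ := emb.cent _ hg
    have hvx : v * hw w3 = hw w3 * v := by
      apply emb.inj
      rw [map_mul, map_mul, hv]
      have h3 := ψ_comm (a := τ) (b := hw w3) (τ_comm _).symm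
      calc g * ψ τ * g⁻¹ * ψ (hw w3) = g * ψ τ * g⁻¹ * (ψ (hw w3) * g) * g⁻¹ := by group
        _ = g * (ψ τ * ψ (hw w3)) * g⁻¹ := by rw [← hgx]; group
        _ = g * ψ (hw w3) * ψ τ * g⁻¹ := by rw [h3]; group
        _ = ψ (hw w3) * (g * ψ τ * g⁻¹) := by rw [hgx]; group
    have hv2 : orderOf v = 2 := by
      rw [← order_ψ, hv, ← order_τ, ← order_ψ]
      exact MulEquiv.orderOf_eq (MulAut.conj g) _
    rcases inv_three hvx hv2 with rfl | h
    · exact hv.symm
    · exfalso
      apply hd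
      have h3 : IsConj (ψ τ) (ψ v) := by
        rw [hv]
        exact isConj_iff.2 ⟨g, rfl⟩
      exact h3.trans (ψ.map_isConj h).symm
  · rw [card_H0]
    exact cent_three ht h2 h5
  · refine pair_W hx hWd (ψ_comm d_comm) (u := ψ τ) (by rw [order_ψ, order_τ]) ?_ (ψ_comm (τ_comm d).symm)
      (ψ_comm (τ_comm _).symm) ht h2 h5
    intro h
    exact d_ne_τ (emb.inj h).symm
  · rw [← map_mul]
    refine pair_W hx hWτd (ψ_comm hτdc) (u := ψ τ) (by rw [order_ψ, order_τ]) ?_ (ψ_comm (τ_comm _).symm)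
      (ψ_comm (τ_comm _).symm) ht h2 h5
    intro h
    exact d_ne (mul_eq_left.1 (emb.inj h).symm)

/-! ### `w1` -/

/-- type II : `W0` is isolated in `C(x)` -/
theorem iso_two {x : PP} (hx : orderOf x = 5) (h : ρ x = φA LFive.c5 * φB (LFive.c5 ^ 3)) :
    ∀ g : ↥(centralizer ({(x : G)} : Set G)), g * sx x * g⁻¹ * sx x = sx x * (g * sx x * g⁻¹) →
      g * sx x * g⁻¹ = sx x := by
  have h5 : x ^ 5 = 1 := by rw [← hx, pow_orderOf_eq_one]
  refine iso_of_extra (order_sx x) (RS.subgroupOf (centralizer ({(x : G)} : Set G))) ?_ ?_ ?_ ?_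
  · intro u k hk hu
    obtain ⟨v, hvu, hvx⟩ := comm_elt hu
    have h1 : v ^ 2 ^ k = 1 := by
      apply Subtype.ext
      change (v : G) ^ 2 ^ k = 1
      rw [hvu]
      exact congrArg Subtype.val hk
    have h2 := ρ_two h hvx h1
    rw [mem_subgroupOf, ← hvu]
    exact ⟨v, h2, rfl⟩
  · intro u
    obtain ⟨k, hk⟩ := RS_isPGroup ⟨((u : ↥(centralizer ({(x : G)} : Set G))) : G), mem_subgroupOf.1 u.2⟩
    refine ⟨k, Subtype.ext (Subtype.ext ?_)⟩
    have h0 := congrArg Subtype.val hk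
    exact h0
  · intro a ha b hb
    rcases large.comm a (mem_subgroupOf.1 ha) b (mem_subgroupOf.1 hb) with h1 | h1
    · exact Or.inl (Subtype.ext h1)
    · exact Or.inr (Subtype.ext h1)
  · intro s hs hs2 hsz
    have hxc : ∀ c : G, c ∈ RS → c * W0 = W0 * c := fun c hc => mem_PP.1 (RS_le_PP hc)
    have hxW : (x : G) * W0 = W0 * x := mem_PP.1 x.2
    have hz2 : W0 * W0 = 1 := W0_sq
    obtain ⟨a, ha, b, hb, h1, h2, h3⟩ := CpAutHNFive.exists_not_comm (G := G)
      (T := RS ⊓ centralizer ({(x : G)} : Set G)) (z := W0) (s := (s : G)) hz2 (fun t ht => hxc t ht.1)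
      (fun a ha b hb => large.comm a ha.1 b hb.1) (by
        intro c hc hcT
        refine large.cent c hc.1 fun y hy => ?_
        refine comm_of_norm (R := RS) (z := W0) (x := (x : G)) order_W0 hxc hxW (congrArg Subtype.val h5)
          (fun r hr => conj_RS x.2 hr) large.comm hc.1 (mem_centralizer_singleton_iff.1 hc.2) ?_ hy
        intro d hd hdx
        exact hcT d ⟨hd, mem_centralizer_singleton_iff.2 hdx⟩) (card_two h5 h)
      ⟨mem_subgroupOf.1 hs, s.2⟩ (TFive.sq_of_order hs2).2 (fun h => hsz (Subtype.ext h))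
    refine ⟨⟨a, ha.2⟩, mem_subgroupOf.2 ha.1, ⟨b, hb.2⟩, mem_subgroupOf.2 hb.1, Subtype.ext h1, Subtype.ext h2, ?_⟩
    intro h4
    exact h3 (congrArg Subtype.val h4)

theorem W0_eq' : W0 = ψ (Cfsg.Agent.HN.Syl.a * τ) := Cfsg.Agent.HN.XWords.W0_eq

theorem aτ_comm : Cfsg.Agent.HN.Syl.a * τ * hw w1 = hw w1 * (Cfsg.Agent.HN.Syl.a * τ) := by
  rw [mul_assoc, ← τ_comm, ← mul_assoc, a_comm, mul_assoc]

theorem τ_ne_W0 : ψ τ ≠ W0 := by
  intro h
  exact Classes.not_isConj (h ▸ IsConj.refl _)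

/-- `8 ∣ |C(w1) ∩ C(W0)|` -/
theorem eight_dvd_W0 : 8 ∣ Nat.card ↥(centralizer ({ψ (hw w1)} : Set G) ⊓ centralizer ({W0} : Set G) : Subgroup G) := by
  have := finite_H0
  have h1 : (zpowers τ ⊔ zpowers (hw wq)).map ψ ≤
      centralizer ({ψ (hw w1)} : Set G) ⊓ centralizer ({W0} : Set G) := by
    rw [map_le_iff_le_comap, sup_le_iff, zpowers_le, zpowers_le]
    constructor
    · refine ⟨mem_centralizer_singleton_iff.2 ?_, mem_centralizer_singleton_iff.2 ?_⟩
      · rw [← map_mul, ← map_mul, τ_comm]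
      · rw [W0_eq', ← map_mul, ← map_mul, ← τ_comm (Cfsg.Agent.HN.Syl.a * τ)]
    · refine ⟨mem_centralizer_singleton_iff.2 ?_, mem_centralizer_singleton_iff.2 ?_⟩
      · rw [← map_mul, ← map_mul, q_comm]
      · have h2 : hw wq * (Cfsg.Agent.HN.Syl.a * τ) = Cfsg.Agent.HN.Syl.a * τ * hw wq := by
          rw [← mul_assoc, q_comm_a, mul_assoc, τ_comm, ← mul_assoc]
        rw [W0_eq', ← map_mul, ← map_mul, h2]
  have h8 : 8 ∣ Nat.card ↥(zpowers τ ⊔ zpowers (hw wq) : Subgroup H0) := by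
    have ht : τ ∈ zpowers τ ⊔ zpowers (hw wq) := mem_sup_left (mem_zpowers _)
    have hq : hw wq ∈ zpowers τ ⊔ zpowers (hw wq) := mem_sup_right (mem_zpowers _)
    have h3 := mul_order_dvd (C := ↥(zpowers τ ⊔ zpowers (hw wq) : Subgroup H0)) (a := ⟨τ, ht⟩) (b := ⟨hw wq, hq⟩)
      (Subtype.ext (τ_comm _).symm)
      (inf_eq_bot_of_prime Nat.prime_two (by rw [← Subgroup.orderOf_coe]; exact order_τ) (by
        intro h
        apply τ_not_mem
        obtain ⟨k, hk⟩ := mem_zpowers_iff.1 h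
        exact mem_zpowers_iff.2 ⟨k, congrArg Subtype.val hk⟩))
    rw [← Subgroup.orderOf_coe, ← Subgroup.orderOf_coe] at h3
    change orderOf τ * orderOf (hw wq) ∣ _ at h3
    rw [order_τ, order_q] at h3
    exact h3
  rw [Nat.card_congr ((zpowers τ ⊔ zpowers (hw wq)).equivMapOfInjective ψ emb.inj).toEquiv] at h8
  exact h8.trans (card_dvd_of_le h1)

theorem iso_one : ∀ g : G, g * ψ (hw w1) = ψ (hw w1) * g → g * W0 * g⁻¹ * W0 = W0 * (g * W0 * g⁻¹) →
    g * W0 * g⁻¹ = W0 := by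
  have hx : orderOf (ψ (hw w1)) = 5 := by rw [order_ψ, order_w1]
  have hxW : ψ (hw w1) * W0 = W0 * ψ (hw w1) := by rw [W0_eq']; exact (ψ_comm aτ_comm).symm
  obtain ⟨g, y, m, hm1, hm5, hy, hy5, h⟩ := std_W hx hxW (u := ψ τ) (by rw [order_ψ, order_τ]) τ_ne_W0
    (by rw [W0_eq']; exact ψ_comm (τ_comm _).symm) (ψ_comm (τ_comm _).symm)
  have hgW : (g : G) * W0 * (g : G)⁻¹ = W0 := by rw [mem_PP.1 g.2, mul_inv_cancel_right]
  have hII : ρ y = φA LFive.c5 * φB (LFive.c5 ^ 3) := by
    rcases h with h | h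
    · exfalso
      have h1 := TFive.card_three h
      rw [TauFive.card_pair, hy, ← hgW, ← card_conj (g : G) (ψ (hw w1) ^ m) W0, centralizer_pow hx hm1 hm5] at h1
      have h2 := eight_dvd_W0.trans h1
      norm_num at h2
    · exact h
  have hiso := iso_two hy5 hII
  intro k hkx hk
  have hkm : k * ψ (hw w1) ^ m = ψ (hw w1) ^ m * k := ((show Commute k (ψ (hw w1)) from hkx).pow_right m).eq
  have hmem : (g : G) * k * (g : G)⁻¹ ∈ centralizer ({(y : G)} : Set G) := by
    rw [mem_centralizer_singleton_iff, hy]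
    calc (g : G) * k * (g : G)⁻¹ * (g * ψ (hw w1) ^ m * (g : G)⁻¹) = g * (k * ψ (hw w1) ^ m) * (g : G)⁻¹ := by group
      _ = g * (ψ (hw w1) ^ m * k) * (g : G)⁻¹ := by rw [hkm]
      _ = _ := by group
  have hconj : (g : G) * k * (g : G)⁻¹ * W0 * ((g : G) * k * (g : G)⁻¹)⁻¹ = g * (k * W0 * k⁻¹) * (g : G)⁻¹ := by
    calc (g : G) * k * (g : G)⁻¹ * W0 * ((g : G) * k * (g : G)⁻¹)⁻¹
        = (g : G) * k * (g : G)⁻¹ * (g * W0 * (g : G)⁻¹) * ((g : G) * k * (g : G)⁻¹)⁻¹ := by rw [hgW]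
      _ = _ := by group
  have h3 := hiso ⟨_, hmem⟩ (Subtype.ext (by
    change (g : G) * k * (g : G)⁻¹ * W0 * ((g : G) * k * (g : G)⁻¹)⁻¹ * W0 =
      W0 * ((g : G) * k * (g : G)⁻¹ * W0 * ((g : G) * k * (g : G)⁻¹)⁻¹)
    rw [hconj]
    calc g * (k * W0 * k⁻¹) * (g : G)⁻¹ * W0 = g * (k * W0 * k⁻¹) * (g : G)⁻¹ * (g * W0 * (g : G)⁻¹) := by rw [hgW]
      _ = g * (k * W0 * k⁻¹ * W0) * (g : G)⁻¹ := by group
      _ = g * (W0 * (k * W0 * k⁻¹)) * (g : G)⁻¹ := by rw [hk]
      _ = (g * W0 * (g : G)⁻¹) * (g * (k * W0 * k⁻¹) * (g : G)⁻¹) := by group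
      _ = _ := by rw [hgW]))
  have h4 : (g : G) * k * (g : G)⁻¹ * W0 * ((g : G) * k * (g : G)⁻¹)⁻¹ = W0 := congrArg Subtype.val h3
  rw [hconj] at h4
  nth_rewrite 2 [← hgW] at h4
  exact mul_left_cancel (mul_right_cancel h4)

theorem not_dvd_w1 {t : ℕ} (ht : t.Prime) (h2 : t ≠ 2) (h5 : t ≠ 5) :
    ¬ t ∣ Nat.card ↥(centralizer ({ψ (hw w1)} : Set G)) := by
  have hx : orderOf (ψ (hw w1)) = 5 := by rw [order_ψ, order_w1]
  have hxW : ψ (hw w1) * W0 = W0 * ψ (hw w1) := by rw [W0_eq']; exact (ψ_comm aτ_comm).symm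
  have hτo : orderOf (ψ τ) = 2 := by rw [order_ψ, order_τ]
  have hτW : ψ τ * W0 = W0 * ψ τ := by rw [W0_eq']; exact ψ_comm (τ_comm _).symm
  have hτx : ψ τ * ψ (hw w1) = ψ (hw w1) * ψ τ := ψ_comm (τ_comm _).symm
  have hWa : W0 * ψ τ = ψ Cfsg.Agent.HN.Syl.a := by
    rw [W0_eq', ← map_mul, mul_assoc, τ_mul_τ, mul_one]
  have hao : orderOf (ψ Cfsg.Agent.HN.Syl.a) = 2 := by
    have : Fact (Nat.Prime 2) := ⟨Nat.prime_two⟩
    rw [← hWa]
    refine orderOf_eq_prime ?_ ?_
    · have h3 : ψ τ * ψ τ = 1 := by rw [← map_mul, τ_mul_τ, map_one]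
      rw [pow_two]
      calc W0 * ψ τ * (W0 * ψ τ) = W0 * (ψ τ * W0) * ψ τ := by group
        _ = (W0 * W0) * (ψ τ * ψ τ) := by rw [hτW]; group
        _ = 1 := by rw [W0_sq, h3, one_mul]
    · intro h
      apply τ_ne_W0
      calc ψ τ = W0 * (W0 * ψ τ) := by rw [← mul_assoc, W0_sq, one_mul]
        _ = W0 := by rw [h, mul_one]
  have hax : ψ Cfsg.Agent.HN.Syl.a * ψ (hw w1) = ψ (hw w1) * ψ Cfsg.Agent.HN.Syl.a := ψ_comm a_comm
  refine not_dvd_cent_of_four (z := W0) (v := ψ τ) order_W0 hτo hτW hxW.symm hτx iso_one ht ?_ ?_ ?_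
  · exact pair_W0 hx hxW hτo τ_ne_W0 hτW hτx ht h2 h5
  · exact pair_τ hx (IsConj.refl _) hτx not_iso_one ht h2 h5
  · rw [hWa]
    rcases Classes.inv_class hao with h | h
    · exact pair_τ hx h.symm hax not_iso_one ht h2 h5
    · refine pair_W hx h.symm hax (u := ψ τ) hτo ?_ (ψ_comm (τ_comm _).symm) hτx ht h2 h5
      intro h3
      -- `ψ τ = ψ a`
      have h4 : W0 = 1 := by
        have h6 : W0 * ψ τ = ψ τ := hWa.trans h3.symm
        exact mul_eq_right.1 h6
      exact W0_ne h4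

/-! ### the subgroup of order 25 -/

theorem tb_zero : ∀ e ∈ tb, e.1 = 0 → e.2.2.2.2.2.1 < 2 := by decide +kernel

theorem tP_zero : ∀ P < 2, tP.getD P [] = w1 ∨ tP.getD P [] = w3 := by decide

theorem table0 {j k : ℕ} (hj : j < 5) (hk : k < 5) (h0 : ¬ (j = 0 ∧ k = 0)) :
    ∃ (g : H0) (m : ℕ), 1 ≤ m ∧ m < 5 ∧ ∃ w, (w = w1 ∨ w = w3) ∧
      g⁻¹ * (hw wc ^ j * hw wz ^ k) * g = hw w ^ m := by
  obtain ⟨e, he, h1, rfl, rfl⟩ := (tb_cover 0 (by norm_num) j hj k hk).resolve_left (fun h => h0 ⟨h.2.1, h.2.2⟩)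
  obtain ⟨h2, h3, h4, h5⟩ := tb_ok e he
  refine ⟨hw (cwd e), e.2.2.2.2.2.2, h4, h5, tP.getD e.2.2.2.2.2.1 [], tP_zero _ (tb_zero e he h1), ?_⟩
  have h6 := hw_eq h2
  rw [hw_append, hw_append, elw, hw_append, hw_append, hw_rp, hw_rp, hw_rp, hw_rp, h1, pow_zero, one_mul] at h6
  rw [mul_assoc, h6, inv_mul_cancel_left]

theorem not_dvd_table {j k : ℕ} (hj : j < 5) (hk : k < 5) (h0 : ¬ (j = 0 ∧ k = 0)) {t : ℕ} (ht : t.Prime) (h2 : t ≠ 2)
    (h5 : t ≠ 5) : ¬ t ∣ Nat.card ↥(centralizer ({ψ (hw wc ^ j * hw wz ^ k)} : Set G)) := by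
  obtain ⟨g, m, hm1, hm5, w, hw', hg⟩ := table0 hj hk h0
  have hw5 : orderOf (ψ (hw w)) = 5 := by
    rw [order_ψ]
    rcases hw' with rfl | rfl
    · exact order_w1
    · exact order_w3
  obtain ⟨e⟩ := cequiv_pow (x := ψ (hw w)) (y := ψ (hw wc ^ j * hw wz ^ k)) hw5 (g := ψ g) hm1 hm5 (by
    rw [← map_pow, ← hg, map_mul, map_mul, map_inv]
    group)
  rw [← Nat.card_congr e.toEquiv]
  rcases hw' with rfl | rfl
  · exact not_dvd_w1 ht h2 h5
  · exact not_dvd_w3 ht h2 h5

theorem c_not_mem : hw wc ∉ zpowers (hw wz) := by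
  rintro ⟨n, hn⟩
  have h1 : hw wc * hw wd = hw wd * hw wc := by
    have h2 : Commute (hw wd) (hw wz ^ n) := (show Commute (hw wd) (hw wz) from dz).zpow_right n
    have h3 : hw wz ^ n = hw wc := hn
    rw [h3] at h2
    exact h2.eq.symm
  have h2 := cd
  rw [h1] at h2
  have h3 : hw wc = hw wc * hw wz := mul_left_cancel h2
  exact z1 (mul_eq_left.1 h3.symm)

theorem order_c : orderOf (hw wc) = 5 := by
  refine order_five_of _root_.Cfsg.Agent.CpAutHNFive.HTab.c5 ?_
  intro h
  apply c_not_mem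
  rw [h]
  exact one_mem _

theorem order_z : orderOf (hw wz) = 5 := order_five_of z5 z1

theorem inv1_five {t b : ℕ} (ht : t.Prime) (h2 : t ≠ 2) (h5 : t ≠ 5) (hb : ¬ t ^ (b + 1) ∣ 273030912000000)
    (hw' : ∀ k, 1 ≤ k → k ≤ b → ¬ 5 ^ 2 ∣ t ^ k - 1) : Cfsg.Agent.H171.Odd.Inv1 5 t G := by
  have := finite_H0
  obtain ⟨E, hE, hEm⟩ := exists_prod cz (inf_eq_bot_of_prime Nat.prime_five order_c c_not_mem)
  rw [order_c, order_z] at hE
  have hEc : Nat.card (E.map ψ) = 5 ^ 2 := by
    rw [card_map_of_injective emb.inj, hE]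
    norm_num
  refine Cfsg.Agent.H171.Odd.inv1_of_sub Nat.prime_five ht (w := 1) (by rw [Classes.card_HN]; exact hb) hw'
    (R0 := E.map ψ) (IsPGroup.of_card hEc) (by rw [hEc]; norm_num) ?_
  rintro _ ⟨y, hy, rfl⟩ hy1
  obtain ⟨i, j, hij⟩ := hEm y hy
  obtain ⟨i', hi', hi⟩ := mem_zpowers_lt (a := hw wc ^ i) (b := hw wc) (n := 5) (by norm_num) _root_.Cfsg.Agent.CpAutHNFive.HTab.c5 ⟨i, rfl⟩
  obtain ⟨j', hj', hj⟩ := mem_zpowers_lt (a := hw wz ^ j) (b := hw wz) (n := 5) (by norm_num) z5 ⟨j, rfl⟩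
  rw [hij, hi, hj]
  refine not_dvd_table hi' hj' ?_ ht h2 h5
  rintro ⟨rfl, rfl⟩
  apply hy1
  rw [hij, hi, hj, pow_zero, pow_zero, one_mul, map_one]

end Cfsg.Agent.H555.Hall.HNFive
end
end
end
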