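import Cfsg.Agent.H555.Hall.ZStar_m3
import Cfsg.Agent.ThType.Collapse
import Cfsg.Agent.BpSpor.ThThree
import Cfsg.Agent.FastGrp
import Cfsg.Agent.Prune
set_option linter.all false
prune_inst 0x7f00000000000000000000000000000000000000000000000000000000000000000000000000000000000000000000000000000000000000000000000000000000000000000000000000000000000000003fffffffffffffffffffffffffffbeffbdffffffff
open scoped Cfsg.Agent.FastGrp

/-!
# The Thompson group: the centralizer of `X333` (helper555)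

`x = X333` (class 3B), `a` the unique involution of `C_C(x)`, `8 ∣ |C(x)|`; a prime `t ≥ 5` dividing `|C(x)|` satisfies
`8 ∣ t ^ k - 1` for the exact power `t ^ k` dividing `|C(x)|`; so `13`, `31` do not divide `|C(x)|`.

`exists_nine` : an element of order 9 the cube of which is conjugate to `x`.
-/

set_option autoImplicit false
set_option maxRecDepth 100000
set_option linter.unusedSectionVars false

namespace Cfsg.Agent.H555.Hall.ThC

open Subgroup Cfsg
open Cfsg.Agent.Th.Base Cfsg.Agent.Th.Word Cfsg.Agent.Th.RelWords Cfsg.Agent.Th.PermTab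
  Cfsg.Agent.Th.KOracle Cfsg.Agent.Th.KPerm Cfsg.Agent.Th.NineAct Cfsg.Agent.Th.CStruct
  Cfsg.Agent.Th.COracleDef Cfsg.Agent.Th.COracleSound
open Cfsg.Agent.KFacts.Th.Mask Cfsg.Agent.KFacts.Th.Struct
open Cfsg.Agent.CpAutTh.Data Cfsg.Agent.CpAutTh.Alt Cfsg.Agent.CpAutTh.RankOne Cfsg.Agent.CpAutTh.Local
  Cfsg.Agent.CpAutTh.Mid Cfsg.Agent.CpAutTh.ThreePerm Cfsg.Agent.CpAutTh.ThreeE
open Cfsg.Agent.BpTab Cfsg.Agent.BpSpor.ThCent

universe u

/-- a 2-group which is not abelian has order divisible by 8 -/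
theorem eight_of_nonab {K : Type*} [Group K] [Finite K] (hK : IsPGroup 2 K) {g k : K} (h : g * k ≠ k * g) :
    8 ∣ Nat.card K := by
  have : Fact (Nat.Prime 2) := ⟨Nat.prime_two⟩
  obtain ⟨n, hn⟩ := IsPGroup.iff_card.1 hK
  rw [hn]
  have h3 : 3 ≤ n := by
    by_contra hlt
    apply h
    interval_cases n
    · have : Subsingleton K := (Nat.card_eq_one_iff_unique.mp (by rw [hn, pow_zero])).1
      exact Subsingleton.elim _ _
    · have h1 : IsCyclic K := isCyclic_of_prime_card (p := 2) (by rw [hn, pow_one])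
      exact (inferInstance : IsMulCommutative K).is_comm.comm g k
    · exact (IsPGroup.isMulCommutative_of_card_eq_prime_sq hn).is_comm.comm g k
  exact (show 8 = 2 ^ 3 by norm_num) ▸ pow_dvd_pow 2 h3

/-- two elements of `Q` commuting with `X333` -/
def S1 : List ℕ := [0, 1, 2, 4, 6, 7]
def S2 : List ℕ := [0, 1, 2, 3, 5, 8]

theorem cm1 : corc (wl S1 ++ (X333 ++ (iw (wl S1) ++ iw X333))) = true := by decide +kernel
theorem cm2 : corc (wl S2 ++ (X333 ++ (iw (wl S2) ++ iw X333))) = true := by decide +kernel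
theorem cm12 : corc (wl S1 ++ (wl S2 ++ (iw (wl S1) ++ (iw (wl S2) ++ [1])))) = true := by decide +kernel

/-- the 9-cycle -/
def X9 : List ℕ := [4, 5, 6]

theorem w9 : corc (X9 ++ (X9 ++ (X9 ++ (X9 ++ (X9 ++ (X9 ++ (X9 ++ (X9 ++ X9)))))))) = true := by decide +kernel
theorem t9 : (pm9 (X9 ++ (X9 ++ X9))).cycleType = {3, 3, 3} := by decide +kernel

section

variable {G : Type u} [Group G] {γ : ℕ → G} (h : Ctx γ)
include h

theorem comm_of_corc {v w : List ℕ} (hw : corc (v ++ (w ++ (iw v ++ iw w))) = true) : ev γ v * ev γ w = ev γ w * ev γ v := by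
  have h1 := ev_one h hw
  rw [ev_append, ev_append, ev_append, ev_iw h.inv, ev_iw h.inv] at h1
  have h2 : ev γ v * ev γ w * (ev γ w * ev γ v)⁻¹ = 1 := by
    rw [mul_inv_rev, ← h1]; simp only [mul_assoc]
  exact mul_inv_eq_one.1 h2

/-- **`8 ∣ |C(X333)|`** -/
theorem eight : 8 ∣ Nat.card (centralizer ({ev γ X333} : Set G)) := by
  have := h.fin
  have h1 : ev γ (wl S1) ∈ Q0 γ ⊓ centralizer ({ev γ X333} : Set G) :=
    ⟨(wl_mem h S1 (by decide)).1, mem_centralizer_singleton_iff.2 (comm_of_corc h cm1)⟩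
  have h2 : ev γ (wl S2) ∈ Q0 γ ⊓ centralizer ({ev γ X333} : Set G) :=
    ⟨(wl_mem h S2 (by decide)).1, mem_centralizer_singleton_iff.2 (comm_of_corc h cm2)⟩
  have hQ : IsPGroup 2 ↥(Q0 γ) := IsPGroup.of_card (n := 9) (by rw [h.cardQ]; norm_num)
  refine (eight_of_nonab (hQ.to_le inf_le_left) (g := ⟨_, h1⟩) (k := ⟨_, h2⟩) ?_).trans (card_dvd_of_le inf_le_right)
  intro he
  have he' : ev γ (wl S1) * ev γ (wl S2) = ev γ (wl S2) * ev γ (wl S1) := congrArg Subtype.val he
  have h3 := ev_one h cm12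
  rw [ev_append, ev_append, ev_append, ev_append, ev_iw h.inv, ev_iw h.inv, ← mul_assoc, he'] at h3
  apply h.a1
  have h4 : ev γ [1] = γ 1 := by simp [ev]
  rw [h4] at h3
  rw [← h3]
  group

variable {f : sub γ isC →* alternatingGroup (Fin 9)} (F : Epi γ f)
include F

theorem uniq333 : ∀ u : ↥(centralizer ({ev γ X333} : Set G)), orderOf u = 2 → u * sx h c333 = sx h c333 * u →
    u = sx h c333 := by
  rintro ⟨u, hu⟩ h1 h2
  apply Subtype.ext
  rw [Subgroup.orderOf_mk] at h1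
  exact inv_triple h F h1 (congrArg Subtype.val h2) (mem_centralizer_singleton_iff.1 hu)

theorem not_dvd_cent333 {t : ℕ} (ht : t.Prime) (h5 : 5 ≤ t) :
    ¬ t ∣ Nat.card ↥(centralizer ({sx h c333} : Set ↥(centralizer ({ev γ X333} : Set G)))) := by
  intro hd
  obtain ⟨n, hn⟩ := card_dvd h F c333 card333
  rcases ht.dvd_mul.1 (hd.trans hn) with h1 | h1
  · have := (Nat.prime_dvd_prime_iff_eq ht Nat.prime_two).1 (ht.dvd_of_dvd_pow h1)
    omega
  · rw [show (162 : ℕ) = 2 * 3 ^ 4 by norm_num] at h1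
    rcases ht.dvd_mul.1 h1 with h3 | h3
    · have := (Nat.prime_dvd_prime_iff_eq ht Nat.prime_two).1 h3
      omega
    · have := (Nat.prime_dvd_prime_iff_eq ht Nat.prime_three).1 (ht.dvd_of_dvd_pow h3)
      omega

/-- the exact power of `t` -/
theorem eight_dvd333 {t k : ℕ} (ht : t.Prime) (h5 : 5 ≤ t)
    (hk : t ^ k ∣ Nat.card ↥(centralizer ({ev γ X333} : Set G)))
    (hk' : ¬ t ^ (k + 1) ∣ Nat.card ↥(centralizer ({ev γ X333} : Set G))) : 8 ∣ t ^ k - 1 := by
  have := h.fin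
  have hs := order_sx h c333
  obtain ⟨Q, hQ, hQ8, hQz⟩ := exists_quat hs (uniq333 h F) (eight h)
  exact eight_dvd hs (iso_of_unique hs (uniq333 h F)) hQ hQ8 hQz ht (not_dvd_cent333 h F ht h5) hk hk'

/-- primes dividing `|G|` once -/
theorem not_dvd333 {t : ℕ} (ht : t.Prime) (h5 : 5 ≤ t) (ht2 : ¬ t ^ 2 ∣ 90745943887872000) (ht8 : ¬ 8 ∣ t - 1) :
    ¬ t ∣ Nat.card ↥(centralizer ({ev γ X333} : Set G)) := by
  intro hd
  apply ht8
  have h1 := eight_dvd333 h F ht h5 (k := 1) (by rwa [pow_one]) (fun h2 => ht2 (by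
    have h3 := h2.trans (card_subgroup_dvd_card _)
    rwa [h.card] at h3))
  rwa [pow_one] at h1

/-- the square if `t` divides -/
theorem sq_dvd333 {t : ℕ} (ht : t.Prime) (h5 : 5 ≤ t) (ht8 : ¬ 8 ∣ t - 1)
    (hd : t ∣ Nat.card ↥(centralizer ({ev γ X333} : Set G))) : t ^ 2 ∣ Nat.card ↥(centralizer ({ev γ X333} : Set G)) := by
  by_contra h2
  apply ht8
  have h1 := eight_dvd333 h F ht h5 (k := 1) (by rwa [pow_one]) h2
  rwa [pow_one] at h1

theorem not_cube333 (hd : 5 ^ 3 ∣ Nat.card ↥(centralizer ({ev γ X333} : Set G))) : False := by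
  have h1 := eight_dvd333 h F Nat.prime_five le_rfl hd (fun h2 => by
    have h3 := h2.trans (card_subgroup_dvd_card _)
    rw [h.card] at h3
    norm_num at h3)
  norm_num at h1

/-- **an element of order 9** -/
theorem exists_nine : ∃ g : G, orderOf g = 9 ∧ ∃ c : G, c * g ^ 3 * c⁻¹ = ev γ X333 := by
  have := h.fin
  have h9 : ev γ X9 ^ 9 = 1 := by
    have h1 := ev_one h w9
    simp only [ev_append] at h1
    rw [← h1]
    simp only [pow_succ, pow_zero, one_mul, mul_assoc]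
  have h3 : ev γ X9 ^ 3 = ev γ (X9 ++ (X9 ++ X9)) := by
    simp only [ev_append, pow_succ, pow_zero, one_mul, mul_assoc]
  have hc : ∀ x ∈ X9 ++ (X9 ++ X9), isC x = true := by decide +kernel
  have hne : pm9 (X9 ++ (X9 ++ X9)) ≠ 1 := by
    intro h1
    have h2 := t9
    rw [h1, Equiv.Perm.cycleType_one] at h2
    exact absurd h2 (by decide)
  have ho : orderOf (⟨ev γ (X9 ++ (X9 ++ X9)), ev_mem_sub hc⟩ : sub γ isC) = 3 := by
    refine ord_word F Nat.prime_three hc ?_ hne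
    rw [← h3, ← pow_mul]
    exact h9
  have ho' : orderOf (ev γ X9) = 9 := by
    have hp : Fact (Nat.Prime 3) := ⟨Nat.prime_three⟩
    refine orderOf_eq_prime_pow (p := 3) (n := 1) (x := ev γ X9) ?_ (by rw [show 3 ^ (1 + 1) = 9 by norm_num]; exact h9)
    rw [pow_one, h3]
    intro h1
    have h2 : (⟨ev γ (X9 ++ (X9 ++ X9)), ev_mem_sub hc⟩ : sub γ isC) = 1 := Subtype.ext h1
    rw [h2, orderOf_one] at ho
    norm_num at ho
  obtain ⟨c, hc'⟩ := conj_rep h F Nat.prime_three (by norm_num) ho (o333 h F) (by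
    rw [F.word _ hc, F.word _ c333, t9, t333]) ccc sccc (by rw [F.word _ c333]; exact m333)
  refine ⟨ev γ X9, ho', c, ?_⟩
  rw [h3]
  exact congrArg Subtype.val hc'

end

end Cfsg.Agent.H555.Hall.ThC
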